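import Cfsg.Agent.Lib.CosetEnum.Trans.DefsTwo
import Cfsg.Agent.Lib.CosetEnum.Fi22Two.DefsTwo

/-! Checks on automorphisms composed with a twist of the points. -/

set_option autoImplicit false

namespace Cfsg.Lib.CosetEnum.Fi22Outer

open Fi22Two (maskOf)

/-- A linear map given by packed columns. -/
def lin (C : Nat) : Nat → Nat → Nat
  | 0, _ => 0
  | k + 1, v => bif v.testBit k then Nat.xor (lin C k v) (Nat.land (Nat.shiftRight C (Nat.mul 10 k)) 1023) else lin C k v

/-- A point moved by a word and then by the twist. -/
noncomputable def outW (Pi Z : Tab) (k : Nat) (w : List Nat) (q : Nat) : Nat := Pi.getP (twalk Z k w q)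

/-- Every vector meeting the equation differs from a representative by the image. -/
noncomputable def coverOK (A B H c : Nat) (rs : List Nat) : Bool :=
  force (maskOf ((List.range 1024).map fun u => lin B 10 u)) fun M =>
    (List.range 1024).all fun v => cond (Nat.beq (lin A 10 (Nat.xor c v)) (lin H 10 v))
      (rs.any fun r => Nat.testBit M (Nat.xor v r)) true

/-- A word conjugates one automorphism to another on the listed points. -/
noncomputable def conjOK (Pi Z : Tab) (k : Nat) (qs : List Nat) (g t s : List Nat) : Bool :=
  qs.all fun q => Nat.beq (outW Pi Z k t (twalk Z k g q)) (twalk Z k g (outW Pi Z k s q))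

/-- A member is moved to another by an earlier one. -/
noncomputable def stepsFam (Z : Tab) (k : Nat) (pts : List Nat) (mv : List (List Nat)) :
    List (Nat × Nat) → Nat → Bool
  | [], i => Nat.beq i pts.length
  | (p, g) :: t, i => Nat.blt p i && Nat.blt g i && Nat.blt i pts.length &&
      Nat.beq (twalk Z k (conjWord (mv.getD g [])) (pts.getD p 0)) (pts.getD i 0) && stepsFam Z k pts mv t (i + 1)

/-- A listed family of fixed points with moving words. -/
noncomputable def famOK (Pi Z : Tab) (k : Nat) (w : List Nat) (pts : List Nat) (mv : List (List Nat)) : Bool :=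
  (List.range pts.length).all fun i => Nat.blt (pts.getD i 0) 3510 && (mv.getD i []).all (fun g => Nat.blt g k) &&
    Nat.beq (twalk Z k (mv.getD i []) 0) (pts.getD i 0) && Nat.beq (outW Pi Z k w (pts.getD i 0)) (pts.getD i 0)

/-- Every fixed point is listed. -/
noncomputable def fixScan (Pi Z : Tab) (k : Nat) (w : List Nat) (pts : List Nat) : Bool :=
  scanOK Z k [] (fun i => force i fun j => cond (Nat.beq (outW Pi Z k w j) j) (elemN pts j) true) 3510 0

/-- Two members commute. -/
noncomputable def comB (Z : Tab) (k : Nat) (mv : List Nat) (q : Nat) : Bool :=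
  Nat.beq (twalk Z k (conjWord mv) q) q

/-- Conjugation by listed members is given by lists. -/
noncomputable def actFamOK (Z : Tab) (k : Nat) (pts : List Nat) (mv : List (List Nat)) (acts : List (List Nat)) : Bool :=
  (List.range acts.length).all fun j => (List.range pts.length).all fun i =>
    Nat.blt ((acts.getD j []).getD i 0) pts.length &&
      Nat.beq (twalk Z k (conjWord (mv.getD j [])) (pts.getD i 0)) (pts.getD ((acts.getD j []).getD i 0) 0) &&
      Nat.beq ((acts.getD j []).getD ((acts.getD j []).getD i 0) 0) i

end Cfsg.Lib.CosetEnum.Fi22Outer
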