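import Cfsg.Agent.Lib.CosetEnum.Fi22U62.Data
import Cfsg.Agent.Lib.CosetEnum.Fi22Out.Twist
import Cfsg.Agent.Lib.CosetEnum.Fi22O8.Data
import Cfsg.Agent.Lib.CosetEnum.Fi22Out.Data
import Cfsg.Agent.Lib.CosetEnum.Fi22Outer.Defs
import Cfsg.Agent.Lib.CosetEnum.Fi22Outer.Data

/-! Kernel checks: fixed members of three outer involutions. -/

set_option autoImplicit false
set_option maxRecDepth 100000
set_option Elab.async false

namespace Cfsg.Lib.CosetEnum.Fi22Outer

open Fi22U62 (tabP)
open Fi22Out (twist)

/-- The word of the second transposition. -/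
def pairWord : List Nat := conjWord [] ++ conjWord [1, 0, 2, 1]

theorem big_fam : famOK twist tabP 9 [] bigPts bigMove = true := by decide +kernel

theorem big_steps : stepsFam tabP 9 bigPts bigMove bigStep 10 = true := by decide +kernel

theorem big_scan : fixScan twist tabP 9 [] bigPts = true := by decide +kernel

theorem big_head : bigPts.length = 360 ∧ bigPts.Nodup ∧
    ((List.range 10).all fun i => elemN (Fi22O8.pts ++ [Fi22O8.other]) (bigPts.getD i 0)) = true ∧
    ((Fi22O8.pts ++ [Fi22O8.other]).all fun q => elemN bigPts q) = true := by decide +kernel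

theorem one_fam : famOK twist tabP 9 (conjWord []) onePts oneMove = true := by decide +kernel

theorem one_steps : stepsFam tabP 9 onePts oneMove oneStep oneAct.length = true := by decide +kernel

theorem one_scan : fixScan twist tabP 9 (conjWord []) onePts = true := by decide +kernel

theorem one_head : onePts.length = 64 ∧ onePts.Nodup ∧ onePts.getD 0 0 = 0 ∧ onePlace.getD 0 0 = 0 ∧
    ((List.range 64).all fun i => comB tabP 9 [] (onePts.getD i 0) && Nat.blt (onePlace.getD i 0) 120 &&
      Nat.beq (Fi22O8.pts.getD (onePlace.getD i 0) 0) (onePts.getD i 0) && elemN bigPts (onePts.getD i 0) &&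
      (Nat.beq i 0 || (Nat.blt (oneWit.getD i 0) 64 &&
        !(comB tabP 9 (oneMove.getD i []) (onePts.getD (oneWit.getD i 0) 0))))) = true := by decide +kernel

theorem one_act : actFamOK tabP 9 onePts oneMove oneAct = true := by decide +kernel

theorem two_fam : famOK twist tabP 9 pairWord twoPts twoMove = true := by decide +kernel

theorem two_steps : stepsFam tabP 9 twoPts twoMove twoStep 7 = true := by decide +kernel

theorem two_scan : fixScan twist tabP 9 pairWord twoPts = true := by decide +kernel

theorem two_act : actFamOK tabP 9 twoPts twoMove twoAct = true := by decide +kernel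

theorem two_head : twoPts.length = 72 ∧ twoPts.Nodup ∧ twoAct.length = 7 ∧
    ((List.range 7).all fun k => Nat.beq (twoCount.getD k 0) (((List.range 72).filter fun q =>
      (List.range k).all fun i => !(Nat.beq q i) &&
        (comB tabP 9 (twoMove.getD i []) (twoPts.getD q 0) == comB tabP 9 (twoMove.getD i []) (twoPts.getD k 0))).length)) = true ∧
    twoCount.prod = 3317760 := by decide +kernel

theorem pairs_ok : ((List.range 72).all fun i => Nat.blt (twoPartner.getD i 0) 72 &&
    Nat.beq (twoPartner.getD (twoPartner.getD i 0) 0) i && !(Nat.beq (twoPartner.getD i 0) i) &&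
    Nat.beq (twoVec.getD (twoPartner.getD i 0) 0) (twoVec.getD i 0) &&
    comB tabP 9 (twoMove.getD i []) (twoPts.getD (twoPartner.getD i 0) 0) &&
    (List.range 72).all fun j => force (twalk tabP 9 (conjWord (twoMove.getD i []) ++
      conjWord (twoMove.getD (twoPartner.getD i 0) [])) (twoPts.getD j 0)) fun r =>
        Nat.beq r (twoPts.getD j 0) || Nat.beq r (twoPts.getD (twoPartner.getD j 0) 0)) = true := by decide +kernel

theorem pairs_apart : ((List.range 72).all fun i => !(Nat.blt i (twoPartner.getD i 0)) ||
    (List.range i).all fun j => !(Nat.blt j (twoPartner.getD j 0)) || testPts.any fun q =>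
      !(Nat.beq (twalk tabP 9 (conjWord (twoMove.getD i []) ++ conjWord (twoMove.getD (twoPartner.getD i 0) [])) q)
        (twalk tabP 9 (conjWord (twoMove.getD j []) ++ conjWord (twoMove.getD (twoPartner.getD j 0) [])) q))) = true :=
  by decide +kernel

theorem test_ok : testPts.length = 10 ∧ testPts.take 9 = Fi22Out.pts.take 9 ∧
    ((List.range 10).all fun i => Nat.blt (testPts.getD i 0) 3510 && (testMove.getD i []).all (fun g => Nat.blt g 9) &&
      Nat.beq (twalk tabP 9 (testMove.getD i []) 0) (testPts.getD i 0) &&
      (testImageMove.getD i []).all (fun g => Nat.blt g 9) &&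
      Nat.beq (twalk tabP 9 (testImageMove.getD i []) 0) (testImage.getD i 0) &&
      Nat.beq (outW twist tabP 9 pairWord (testPts.getD i 0)) (testImage.getD i 0)) = true ∧
    ((twoSep.all fun i => Nat.blt i 72) = true) := by decide +kernel

theorem sep_ok : ((List.range 10).all fun i => scanOK tabP 9
    (twoSep.map fun s => (conjWord (twoMove.getD s []), comB tabP 9 (twoMove.getD s []) (testPts.getD i 0)))
    (fun r => Nat.beq r (testPts.getD i 0) || Nat.beq r (testImage.getD i 0) || elemN twoPts (testPts.getD i 0))
    3510 0) = true := by decide +kernel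

/-- The points among the tested ones that the automorphism moves. -/
def movedTest : List Nat := [1, 3, 7, 9]

theorem mixed_ok : ((List.range 10).all fun i => Nat.beq (testPts.getD i 0) (testImage.getD i 0) ==
      !(movedTest.contains i)) = true ∧
    ((List.range 16).all fun m => Nat.beq m 0 || Nat.beq m 15 ||
      force m fun m => (List.range 4).any fun a => (List.range a).any fun b =>
        !(comB tabP 9 (testMove.getD (movedTest.getD a 0) []) (testPts.getD (movedTest.getD b 0) 0) ==
          comB tabP 9 (bif m.testBit a then testImageMove.getD (movedTest.getD a 0) [] else testMove.getD (movedTest.getD a 0) [])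
            (bif m.testBit b then testImage.getD (movedTest.getD b 0) 0 else testPts.getD (movedTest.getD b 0) 0))) = true :=
  by decide +kernel

end Cfsg.Lib.CosetEnum.Fi22Outer
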