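import Cfsg.Agent.Lib.CosetEnum.Fi22U62.Data
import Cfsg.Agent.Lib.CosetEnum.Fi22Out.Twist
import Cfsg.Agent.Lib.CosetEnum.Fi22Out.Data
import Cfsg.Agent.Lib.CosetEnum.Fi22Two.Data
import Cfsg.Agent.Lib.CosetEnum.Fi22Outer.Defs
import Cfsg.Agent.Lib.CosetEnum.Fi22Outer.Data

/-! Kernel checks: the outer involutions in a Sylow 2-subgroup. -/

set_option autoImplicit false
set_option maxRecDepth 100000
set_option Elab.async false

namespace Cfsg.Lib.CosetEnum.Fi22Outer

open Fi22U62 (tabP)
open Fi22Out (twist pts)
open Fi22Two (clique moving basisIdx vec gens perms permWord comp idPerm coordWord)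

theorem twist_clique : ((List.range 22).all fun j => Nat.blt (twistPerm.getD j 0) 22 &&
    Nat.beq (twist.getP (clique.getD j 0)) (clique.getD (twistPerm.getD j 0) 0) &&
    Nat.beq (twistPerm.getD (twistPerm.getD j 0) 0) j) = true ∧ twistPerm.length = 22 ∧
    ((List.range 10).all fun k => Nat.beq (Nat.land (Nat.shiftRight twistCols (Nat.mul 10 k)) 1023)
      (vec.getD (twistPerm.getD (basisIdx.getD k 0) 0) 0)) = true ∧
    (perms.all fun h => perms.contains (comp (comp twistPerm h) twistPerm)) = true := by decide +kernel

theorem invol_list : ((List.range 128).all fun i =>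
    !(comp (comp (comp twistPerm (perms.getD i [])) twistPerm) (perms.getD i []) == idPerm) ||
      (invol.map Prod.fst).contains i) = true ∧ invol.length = reps.length ∧ invol.length = conjs.length := by
  decide +kernel

theorem invol_cols : (invol.all fun e => Nat.blt e.1 128 && Nat.blt e.2.1 128 &&
    (comp (perms.getD e.2.1 []) (perms.getD e.1 []) == idPerm) &&
    (List.range 10).all fun k =>
      Nat.beq (Nat.land (Nat.shiftRight e.2.2.2.1 (Nat.mul 10 k)) 1023)
        (vec.getD ((perms.getD e.1 []).getD (basisIdx.getD k 0) 0) 0) &&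
      Nat.beq (Nat.land (Nat.shiftRight e.2.2.2.2 (Nat.mul 10 k)) 1023)
        (Nat.xor (Nat.shiftLeft 1 k)
          (vec.getD ((perms.getD e.2.1 []).getD (twistPerm.getD (basisIdx.getD k 0) 0) 0) 0))) = true := by
  decide +kernel

theorem invol_square : (invol.all fun e => Nat.blt e.2.2.1 1024 && pts.all fun q =>
    (fun w =>
    Nat.beq (outW twist tabP 9 w (outW twist tabP 9 w q))
      (twalk tabP 9 (coordWord moving basisIdx 10 e.2.2.1) q)) (prodWord gens (permWord.getD e.1 []))) = true := by decide +kernel

theorem cover_ok : ((List.range invol.length).all fun j => coverOK (invol.getD j (0, 0, 0, 0, 0)).2.2.2.1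
    (invol.getD j (0, 0, 0, 0, 0)).2.2.2.2 twistCols (invol.getD j (0, 0, 0, 0, 0)).2.2.1 (reps.getD j [])) = true := by
  decide +kernel

/-- The words of the three standard involutions. -/
def stdWords : List (List Nat) := [[], conjWord [], conjWord [] ++ conjWord [1, 0, 2, 1]]

theorem conjs_ok : ((List.range invol.length).all fun j =>
    Nat.beq (reps.getD j []).length (conjs.getD j []).length &&
    (List.range (reps.getD j []).length).all fun r =>
      Nat.blt ((conjs.getD j []).getD r (0, [])).1 3 && Nat.blt ((reps.getD j []).getD r 0) 1024 &&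
      ((prodWord conjGens ((conjs.getD j []).getD r (0, [])).2).all fun g => Nat.blt g 9) &&
      conjOK twist tabP 9 (pts.take 9) (prodWord conjGens ((conjs.getD j []).getD r (0, [])).2)
        (coordWord moving basisIdx 10 ((reps.getD j []).getD r 0) ++
          prodWord gens (permWord.getD (invol.getD j (0, 0, 0, 0, 0)).1 []))
        (stdWords.getD ((conjs.getD j []).getD r (0, [])).1 [])) = true := by decide +kernel

end Cfsg.Lib.CosetEnum.Fi22Outer
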