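import Cfsg.Agent.Lib.CosetEnum.Fi22Outer.TwoBound
import Cfsg.Agent.Lib.CosetEnum.Fi22Outer.ChecksRep
import Cfsg.Agent.Lib.CosetEnum.Fi22Two.Thompson
import Cfsg.Agent.Lib.CosetEnum.Fi22Two.Classes
import Cfsg.Agent.Lib.Fischer.Relations.TwoPair.AutAmb

/-!
# The classes of outer involutions
-/

set_option autoImplicit false
set_option linter.unusedSectionVars false
set_option linter.style.haveILetI false
set_option maxRecDepth 20000

namespace Cfsg.Lib.CosetEnum.Fi22Outer

open Fi22Norm (Fi22Tab)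
open Fi22U62 (tabP)
open Fi22Out (twist pts)
open Fi22Two (P ev base twoGroup PermBy perms permWord comp idPerm clique coordWord moving basisIdx vec
  testBit_maskOf)

variable {G : Type*} [Group G] [Finite G] {D : Set G} (T : Fi22Tab G D)

/-- A representative of a permutation in the Sylow subgroup. -/
noncomputable def rep (i : ℕ) : G := wordVal T.A.x (prodWord Fi22Two.gens (permWord.getD i []))

theorem perm_mem {i : ℕ} (hi : i < 128) : perms.getD i [] ∈ perms ∧ (perms.getD i []).length = 22 := by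
  have : perms.getD i [] ∈ perms := by
    rw [List.getD_eq_getElem _ _ (Fi22Two.perms_ok.2.symm ▸ hi)]; exact List.getElem_mem _
  exact ⟨this, Fi22Two.perms_len this⟩

theorem rep_spec {i : ℕ} (hi : i < 128) : rep T i ∈ twoGroup T ∧ PermBy T (rep T i) (perms.getD i []) ∧
    ∀ g ∈ prodWord Fi22Two.gens (permWord.getD i []), g < 9 := by
  have h := List.all_eq_true.1 Fi22Two.permWord_ok i (List.mem_range.2 hi)
  rw [Bool.and_eq_true, List.all_eq_true] at h
  refine ⟨?_, Fi22Two.permBy_of_check T h.2, ?_⟩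
  · have h1 : ∀ j ∈ permWord.getD i [], j < 7 := fun j hj => Nat.blt_eq ▸ (by simpa using h.1 j hj)
    unfold rep
    generalize permWord.getD i [] = u at h1
    induction u with
    | nil => exact one_mem _
    | cons j u ih =>
      rw [show prodWord Fi22Two.gens (j :: u) = Fi22Two.gens.getD j [] ++ prodWord Fi22Two.gens u from rfl,
        wordVal_append]
      exact mul_mem (ih fun a ha => h1 a (by simp [ha]))
        (Subgroup.subset_closure (Or.inl ⟨j, h1 j (by simp), rfl⟩))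
  · have h2 := h.2
    simp only [Fi22Two.permOK, Bool.and_eq_true, List.all_eq_true, Nat.blt_eq] at h2
    exact h2.1

/-- An element permuting the clique as a listed permutation is its representative times a coordinate element. -/
theorem exists_decomp {z : G} {i : ℕ} (hi : i < 128) (hz : PermBy T z (perms.getD i [])) :
    ∃ v < 1024, z = rep T i * ev T 10 v := by
  have : (rep T i)⁻¹ * z ∈ base T := by
    refine Fi22Two.mem_base_of_permBy T fun k hk => ?_
    obtain ⟨hj, e⟩ := hz k hk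
    obtain ⟨hj', e'⟩ := (rep_spec T hi).2.1 k hk
    refine ⟨(Fi22Two.idPerm_getD hk).symm ▸ hk, ?_⟩
    rw [map_mul, Equiv.Perm.mul_apply, e, map_inv, Equiv.Perm.inv_def, Equiv.symm_apply_eq,
      Fi22Two.P_congr (Fi22Two.idPerm_getD hk) _ hk]
    exact e'.symm
  obtain ⟨v, hv, e⟩ := this
  exact ⟨v, hv, by rw [e, mul_inv_cancel_left]⟩

theorem permBy_mul_base {g b : G} {h : List ℕ} (hg : PermBy T g h) (hb : b ∈ base T) : PermBy T (g * b) h := by
  intro i hi
  obtain ⟨hj, e⟩ := Fi22Two.permBy_base T hb i hi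
  obtain ⟨hk, e'⟩ := hg i hi
  refine ⟨hk, ?_⟩
  rw [map_mul, Equiv.Perm.mul_apply, e, ← e']
  exact congrArg _ (Fi22Two.P_congr (Fi22Two.idPerm_getD hi) _ _)

theorem mem_twoGroup_of_permBy {z : G} {h : List ℕ} (hh : h ∈ perms) (hz : PermBy T z h) : z ∈ twoGroup T := by
  obtain ⟨i, hi, rfl⟩ := List.mem_iff_getElem.1 hh
  rw [← List.getD_eq_getElem _ [] hi] at hz
  obtain ⟨v, hv, rfl⟩ := exists_decomp T (Fi22Two.perms_ok.2 ▸ hi) hz
  exact mul_mem (rep_spec T (Fi22Two.perms_ok.2 ▸ hi)).1 (Fi22Two.base_le T ⟨v, hv, rfl⟩)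

/-- A linear map on coordinates given by packed columns. -/
theorem ev_lin {C : ℕ} {F : G → G} (h1 : F 1 = 1) (hmul : ∀ x ∈ base T, ∀ y ∈ base T, F (x * y) = F x * F y)
    (hcol : ∀ k < 10, Nat.land (Nat.shiftRight C (Nat.mul 10 k)) 1023 < 1024 ∧
      F (Fi22Two.gen T (basisIdx.getD k 0)) = ev T 10 (Nat.land (Nat.shiftRight C (Nat.mul 10 k)) 1023)) :
    ∀ k ≤ 10, ∀ v, lin C k v < 1024 ∧ ev T k v ∈ base T ∧ F (ev T k v) = ev T 10 (lin C k v)
  | 0, _, v => by
    rw [lin, ev, Fi22Two.ev_zero, h1]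
    exact ⟨by norm_num, one_mem _, rfl⟩
  | k + 1, hk, v => by
    obtain ⟨i1, i2, i3⟩ := ev_lin h1 hmul hcol k (by omega) v
    rw [ev, lin]
    cases v.testBit k
    · rw [if_neg (by simp), mul_one, cond_false]
      exact ⟨i1, i2, i3⟩
    · obtain ⟨c1, c2⟩ := hcol k (by omega)
      have hg := Fi22Two.gen_mem T (Fi22Two.basis_spec (k := k) (by omega)).1
      rw [if_pos rfl, cond_true]
      refine ⟨Nat.xor_lt_two_pow (n := 10) i1 c1, mul_mem i2 hg, ?_⟩
      rw [hmul _ i2 _ hg, i3, c2]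
      exact (Fi22Two.ev_xor T le_rfl _ _).symm

theorem lin_conj {i : ℕ} (hi : i < 128) {C : ℕ}
    (hC : ∀ k < 10, Nat.land (Nat.shiftRight C (Nat.mul 10 k)) 1023 =
      vec.getD ((perms.getD i []).getD (basisIdx.getD k 0) 0) 0) (v : ℕ) :
    lin C 10 v < 1024 ∧ rep T i * ev T 10 v * (rep T i)⁻¹ = ev T 10 (lin C 10 v) := by
  have h := ev_lin T (F := fun x => rep T i * x * (rep T i)⁻¹) (by simp) (fun x _ y _ => conj_mul.symm)
    (fun k hk => by
      have hb := (Fi22Two.basis_spec hk).1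
      obtain ⟨hj, e⟩ := (rep_spec T hi).2.1 _ hb
      rw [hC k hk]
      refine ⟨(Fi22Two.ev_vec T hj).1, ?_⟩
      show rep T i * Fi22Two.gen T _ * (rep T i)⁻¹ = _
      rw [← Fi22Two.delta_P T hb, ← T.A.delta_apply, e, Fi22Two.delta_P T hj, (Fi22Two.ev_vec T hj).2]) 10 le_rfl v
  exact ⟨h.1, h.2.2⟩

variable {T} (O : Outer T)

theorem twist_spec {j : ℕ} (hj : j < 22) : ∃ h : twistPerm.getD j 0 < 22, O.π (P j hj) = P (twistPerm.getD j 0) h := by
  have h := twist_clique.1
  simp only [List.all_eq_true, List.mem_range, Bool.and_eq_true, Nat.blt_eq, Nat.beq_eq, and_assoc] at h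
  obtain ⟨h1, h2, -⟩ := h j hj
  exact ⟨h1, Fin.ext ((O.π_val _).trans h2)⟩

theorem permBy_twist {g : G} {h : List ℕ} (hg : PermBy T g h) :
    PermBy T (O.σ g) (comp (comp twistPerm h) twistPerm) := by
  intro i hi
  obtain ⟨h1, e1⟩ := twist_spec O hi
  obtain ⟨h2, e2⟩ := hg _ h1
  obtain ⟨h3, e3⟩ := twist_spec O h2
  have e : (comp (comp twistPerm h) twistPerm).getD i 0 = twistPerm.getD (h.getD (twistPerm.getD i 0) 0) 0 := by
    rw [Fi22Two.comp_getD _ _ hi, Fi22Two.comp_getD _ _ h1]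
  refine ⟨e ▸ h3, ?_⟩
  rw [Fi22Two.P_congr e _ h3, ← e3, ← e2, ← e1]
  refine T.A.delta_injective ?_
  rw [T.A.delta_apply, ← O.moves, T.A.delta_apply, ← O.moves, map_mul, map_mul, map_inv, O.sq_apply]

theorem twist_twoGroup {g : G} (hg : g ∈ twoGroup T) : O.σ g ∈ twoGroup T := by
  obtain ⟨h, hh, hp⟩ := Fi22Two.exists_perm T hg
  have := twist_clique.2.2.2
  simp only [List.all_eq_true, List.contains_eq_mem, decide_eq_true_eq] at this
  exact mem_twoGroup_of_permBy T (this h hh) (permBy_twist O hp)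

theorem lin_twist (v : ℕ) : lin twistCols 10 v < 1024 ∧ O.σ (ev T 10 v) = ev T 10 (lin twistCols 10 v) := by
  have hc := twist_clique.2.2.1
  simp only [List.all_eq_true, List.mem_range, Nat.beq_eq] at hc
  have h := ev_lin T (F := fun x => O.σ x) (map_one _) (fun x _ y _ => map_mul _ x y) (fun k hk => by
    have hb := (Fi22Two.basis_spec hk).1
    obtain ⟨hj, e⟩ := twist_spec O hb
    rw [hc k hk]
    refine ⟨(Fi22Two.ev_vec T hj).1, ?_⟩
    show O.σ (Fi22Two.gen T _) = _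
    rw [← Fi22Two.delta_P T hb, O.moves, e, Fi22Two.delta_P T hj, (Fi22Two.ev_vec T hj).2]) 10 le_rfl v
  exact ⟨h.1, h.2.2⟩

theorem conj_eq_one (T : Fi22Tab G D) {g : G} (h : MulAut.conj g = 1) : g = 1 := by
  have : g ∈ Subgroup.center G := Subgroup.mem_center_iff.2 fun x => by
    have := DFunLike.congr_fun h x
    rw [MulAut.conj_apply, MulAut.one_apply] at this
    exact (mul_inv_eq_iff_eq_mul.1 this).symm
  rwa [T.center, Subgroup.mem_bot] at this

theorem conj_inj (T : Fi22Tab G D) {g h : G} (e : MulAut.conj g = MulAut.conj h) : g = h := by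
  refine inv_mul_eq_one.1 (conj_eq_one T ?_) |>.symm
  rw [map_mul, map_inv, e, inv_mul_cancel]

theorem outer_mul_outer (x y : G) :
    O.σ * MulAut.conj x * (O.σ * MulAut.conj y) = MulAut.conj (O.σ x * y) := by
  rw [O.conj_swap, mul_assoc, ← mul_assoc O.σ O.σ, O.sq, one_mul, ← map_mul]

theorem conj_mul_outer (e x : G) :
    MulAut.conj e * (O.σ * MulAut.conj x) * (MulAut.conj e)⁻¹ = O.σ * MulAut.conj (O.σ e * x * e⁻¹) := by
  rw [← mul_assoc, show MulAut.conj e * O.σ = O.σ * MulAut.conj (O.σ e) by rw [O.conj_swap, O.sq_apply],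
    map_mul, map_mul, map_inv]
  group

/-- The group of automorphisms normalising the Sylow subgroup by twisting. -/
noncomputable def Outer.sylAut : Subgroup (MulAut G) where
  carrier := {φ | ∃ x ∈ twoGroup T, φ = MulAut.conj x ∨ φ = O.σ * MulAut.conj x}
  one_mem' := ⟨1, one_mem _, Or.inl (map_one _).symm⟩
  mul_mem' := by
    rintro _ _ ⟨x, hx, rfl | rfl⟩ ⟨y, hy, rfl | rfl⟩
    · exact ⟨x * y, mul_mem hx hy, Or.inl (map_mul _ x y).symm⟩
    · refine ⟨O.σ x * y, mul_mem (twist_twoGroup O hx) hy, Or.inr ?_⟩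
      rw [← mul_assoc, show MulAut.conj x * O.σ = O.σ * MulAut.conj (O.σ x) by rw [O.conj_swap, O.sq_apply],
        mul_assoc, ← map_mul]
    · exact ⟨x * y, mul_mem hx hy, Or.inr (by rw [map_mul, mul_assoc])⟩
    · exact ⟨_, mul_mem (twist_twoGroup O hx) hy, Or.inl (outer_mul_outer O x y)⟩
  inv_mem' := by
    rintro _ ⟨x, hx, rfl | rfl⟩
    · exact ⟨x⁻¹, inv_mem hx, Or.inl (map_inv _ x).symm⟩
    · refine ⟨O.σ x⁻¹, twist_twoGroup O (inv_mem hx), Or.inr (inv_eq_of_mul_eq_one_right ?_)⟩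
      rw [outer_mul_outer, ← map_mul, mul_inv_cancel, map_one, map_one]

theorem outer_ne_conj (x y : G) : O.σ * MulAut.conj x ≠ MulAut.conj y := fun h =>
  O.not_inner ⟨y * x⁻¹, by rw [map_mul, map_inv, ← h, mul_inv_cancel_right]⟩

theorem card_sylAut : Nat.card O.sylAut = 2 ^ 18 := by
  let f : twoGroup T × Bool → O.sylAut := fun u =>
    ⟨bif u.2 then O.σ * MulAut.conj u.1.1 else MulAut.conj u.1.1, u.1.1, u.1.2, by cases u.2 <;> simp⟩
  have hf : Function.Bijective f := by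
    refine ⟨?_, ?_⟩
    · rintro ⟨⟨x, hx⟩, a⟩ ⟨⟨y, hy⟩, b⟩ h
      have h' := congrArg Subtype.val h
      cases a <;> cases b <;> simp only [f, cond_true, cond_false] at h'
      · rw [Prod.ext_iff]; exact ⟨Subtype.ext (conj_inj T h'), rfl⟩
      · exact absurd h'.symm (outer_ne_conj O _ _)
      · exact absurd h' (outer_ne_conj O _ _)
      · rw [Prod.ext_iff]; exact ⟨Subtype.ext (conj_inj T (mul_left_cancel h')), rfl⟩
    · rintro ⟨φ, x, hx, rfl | rfl⟩
      · exact ⟨(⟨x, hx⟩, false), Subtype.ext rfl⟩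
      · exact ⟨(⟨x, hx⟩, true), Subtype.ext rfl⟩
  rw [← Nat.card_congr (Equiv.ofBijective f hf), Nat.card_prod, Fi22Two.card_twoGroup, Nat.card_eq_fintype_card,
    Fintype.card_bool]
  norm_num

theorem card_aut (T : Fi22Tab G D) (hA : Fischer.Relations.TwoPair.Amb D) :
    (Nat.card (MulAut G)).factorization 2 = 18 := by
  have hinj : Function.Injective (MulAut.conj : G →* MulAut G) := fun g h e => conj_inj T e
  have hI : Nat.card (Cfsg.Inn G) = Nat.card G := (Nat.card_congr (MonoidHom.ofInjective hinj).toEquiv).symm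
  rw [← (Cfsg.Inn G).card_mul_index, hA.idx, hI, T.card,
    show 2 ^ 17 * 3 ^ 9 * 5 ^ 2 * 7 * 11 * 13 * 2 = 2 ^ 18 * 492567075 by norm_num,
    Nat.factorization_mul (by norm_num) (by norm_num), Finsupp.add_apply,
    Nat.Prime.factorization_pow (by norm_num), Finsupp.single_eq_same,
    Nat.factorization_eq_zero_of_not_dvd (by norm_num), add_zero]

/-- Outer involutions are conjugate into the twisted Sylow subgroup. -/
theorem exists_conj_outer (hA : Fischer.Relations.TwoPair.Amb D) {t : MulAut G} (ht : orderOf t = 2)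
    (hout : t ∉ (MulAut.conj : G →* MulAut G).range) :
    ∃ x ∈ twoGroup T, IsConj t (O.σ * MulAut.conj x) ∧ O.σ x * x = 1 := by
  haveI : Fact (Nat.Prime 2) := ⟨Nat.prime_two⟩
  let S : Sylow 2 (MulAut G) := Sylow.ofCard O.sylAut (by rw [card_sylAut, card_aut T hA])
  obtain ⟨R, hR⟩ := (IsPGroup.of_card (n := 1) (by rw [Nat.card_zpowers, ht, pow_one]) :
    IsPGroup 2 (Subgroup.zpowers t)).exists_le_sylow
  obtain ⟨a, ha⟩ := MulAction.exists_smul_eq (MulAut G) R S
  have hmem : a * t * a⁻¹ ∈ O.sylAut := by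
    show a * t * a⁻¹ ∈ (S : Subgroup (MulAut G))
    rw [← ha]
    exact ⟨t, hR (Subgroup.mem_zpowers t), rfl⟩
  obtain ⟨x, hx, h | h⟩ := hmem
  · refine absurd ⟨a⁻¹ x, ?_⟩ hout
    have : t = a⁻¹ * MulAut.conj x * a := by rw [← h]; group
    rw [this]
    have e := Fischer.Relations.TwoPair.conj_map_aut a⁻¹ x
    rw [inv_inv] at e
    exact e.symm
  · refine ⟨x, hx, h ▸ isConj_iff.2 ⟨a, rfl⟩, conj_eq_one T ?_⟩
    rw [← outer_mul_outer, ← h, show a * t * a⁻¹ * (a * t * a⁻¹) = a * (t * t) * a⁻¹ by group,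
      ← pow_two, ← ht, pow_orderOf_eq_one]
    group

/-- The three standard involutions represent all outer involutions. -/
theorem classes (hA : Fischer.Relations.TwoPair.Amb D) {t : MulAut G} (ht : orderOf t = 2)
    (hout : t ∉ (MulAut.conj : G →* MulAut G).range) :
    IsConj t O.σ ∨ IsConj t (O.σ * MulAut.conj (aEl T)) ∨ IsConj t (O.σ * MulAut.conj (aEl T * bEl T)) := by
  obtain ⟨x, hx, hconj, hsq⟩ := exists_conj_outer O hA ht hout
  obtain ⟨h, hh, hp⟩ := Fi22Two.exists_perm T hx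
  obtain ⟨i, hi, rfl⟩ := List.mem_iff_getElem.1 hh
  have hi' : i < 128 := Fi22Two.perms_ok.2 ▸ hi
  rw [← List.getD_eq_getElem _ [] hi] at hp
  obtain ⟨v, hv, rfl⟩ := exists_decomp T hi' hp
  have hcomp : comp (comp (comp twistPerm (perms.getD i [])) twistPerm) (perms.getD i []) = idPerm := by
    refine Fi22Two.PermBy.unique T ((permBy_twist O hp).mul T hp) ?_ (by simp [comp]) (by simp [idPerm])
    rw [hsq]
    exact Fi22Two.permBy_one T
  obtain ⟨j, hj, he⟩ : ∃ j < invol.length, (invol.getD j (0, 0, 0, 0, 0)).1 = i := by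
    have h := List.all_eq_true.1 invol_list.1 i (List.mem_range.2 hi')
    rw [hcomp, beq_self_eq_true, Bool.not_true, Bool.false_or, List.contains_eq_mem, decide_eq_true_eq,
      List.mem_map] at h
    obtain ⟨e, he, rfl⟩ := h
    obtain ⟨j, hj, rfl⟩ := List.mem_iff_getElem.1 he
    exact ⟨j, hj, by rw [List.getD_eq_getElem _ _ hj]⟩
  obtain ⟨e, heq⟩ : ∃ e, e = invol.getD j (0, 0, 0, 0, 0) := ⟨_, rfl⟩
  have hemem : e ∈ invol := by rw [heq, List.getD_eq_getElem _ _ hj]; exact List.getElem_mem _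
  rw [← heq] at he
  have hcols := List.all_eq_true.1 invol_cols e hemem
  simp only [Bool.and_eq_true, Nat.blt_eq, beq_iff_eq, List.all_eq_true, List.mem_range, Nat.beq_eq,
    and_assoc] at hcols
  obtain ⟨-, hinv, hid, hcol⟩ := hcols
  have hsqr := List.all_eq_true.1 invol_square e hemem
  simp only [Bool.and_eq_true, Nat.blt_eq, List.all_eq_true, Nat.beq_eq] at hsqr
  obtain ⟨hc, hsqr⟩ := hsqr
  have hcov := List.all_eq_true.1 cover_ok j (List.mem_range.2 hj)
  rw [← heq] at hcov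
  rw [he] at hcol hid hsqr
  obtain ⟨W, hW⟩ : ∃ W, W = rep T i := ⟨_, rfl⟩
  -- conjugation by the representative and its inverse
  have hA' := lin_conj T hi' (C := e.2.2.2.1) fun k hk => (hcol k hk).1
  rw [← hW] at hA' hsq
  obtain ⟨W', hW'⟩ : ∃ W', W' = rep T e.2.1 := ⟨_, rfl⟩
  have hbW : W' * W ∈ base T := by
    rw [hW, hW']
    refine Fi22Two.mem_base_of_permBy T ?_
    have := (rep_spec T hinv).2.1.mul T (rep_spec T hi').2.1
    rwa [hid] at this
  have hWbase : ∀ y ∈ base T, W⁻¹ * y * W = W' * y * W'⁻¹ := by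
    intro y hy
    have hmemb : W' * y * W'⁻¹ ∈ base T := by
      obtain ⟨u, hu, rfl⟩ := hy
      rw [hW', Fi22Two.conj_ev T (rep_spec T hinv).2.1 le_rfl]
      exact ⟨_, Fi22Two.act_lt T (rep_spec T hinv).2.1 le_rfl u, rfl⟩
    calc W⁻¹ * y * W = (W' * W)⁻¹ * ((W' * y * W'⁻¹) * (W' * W)) := by group
      _ = W' * y * W'⁻¹ := by rw [Fi22Two.base_comm T hmemb hbW, inv_mul_cancel_left]
  -- the square of the representative
  have hwlt : ∀ g ∈ prodWord Fi22Two.gens (permWord.getD i []), g < 9 := (rep_spec T hi').2.2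
  have hclt : ∀ g ∈ coordWord moving basisIdx 10 e.2.2.1, g < 9 := coordWord_lt _
  have hWsq : O.σ W * W = ev T 10 e.2.2.1 := by
    refine conj_inj T ?_
    rw [← outer_mul_outer, hW]
    refine ((O.moves_word _).mul (O.moves_word _)).ext (moves_conj _) fun g hg => Fin.ext ?_
    rw [Equiv.Perm.mul_apply, O.outW_val hwlt, O.outW_val hwlt, Fi22Two.ev_eq_word, walk_val hclt]
    exact hsqr _ (pts_mem hg)
  -- the equation on the coordinates
  have heqn : lin e.2.2.2.1 10 (Nat.xor e.2.2.1 v) = lin twistCols 10 v := by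
    refine Fi22Two.ev_inj T (hA' _).1 (lin_twist O v).1 ?_
    rw [← (hA' _).2, ← (lin_twist O v).2, show Nat.xor e.2.2.1 v = e.2.2.1 ^^^ v from rfl,
      Fi22Two.ev_xor T le_rfl, ← hWsq]
    have h0 : O.σ W * O.σ (ev T 10 v) * (W * ev T 10 v) = 1 := by rw [← map_mul]; exact hsq
    have hev : ev T 10 v * ev T 10 v = 1 := by rw [← Fi22Two.ev_xor T le_rfl, Nat.xor_self, Fi22Two.ev_zero]
    have hWW : W * (O.σ W * W) * W⁻¹ = W * O.σ W := by group
    have h1 : O.σ (ev T 10 v) = (O.σ W)⁻¹ * (W * ev T 10 v)⁻¹ := by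
      rw [← eq_inv_mul_iff_mul_eq.2 ((mul_eq_one_iff_eq_inv.1 h0))]
    rw [h1, mul_inv_rev, inv_eq_of_mul_eq_one_right hev]
    have hcm : O.σ W * W * ev T 10 v = ev T 10 v * (O.σ W * W) := by
      rw [hWsq]
      exact Fi22Two.base_comm T ⟨_, hc, rfl⟩ ⟨_, hv, rfl⟩
    have hsqW : O.σ W * W * (O.σ W * W) = 1 := by
      rw [hWsq, ← Fi22Two.ev_xor T le_rfl, Nat.xor_self, Fi22Two.ev_zero]
    calc W * (O.σ W * W * ev T 10 v) * W⁻¹
        = W * ((O.σ W * W)⁻¹ * ev T 10 v) * W⁻¹ := by rw [inv_eq_of_mul_eq_one_right hsqW]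
      _ = (O.σ W)⁻¹ * (ev T 10 v * W⁻¹) := by group
  unfold coverOK at hcov
  simp only [force_eq, List.all_eq_true, List.mem_range] at hcov
  have hr := hcov v hv
  rw [show Nat.beq (lin e.2.2.2.1 10 (Nat.xor e.2.2.1 v)) (lin twistCols 10 v) = true from Nat.beq_eq ▸ heqn,
    cond_true, List.any_eq_true] at hr
  obtain ⟨r, hrm, hr⟩ := hr
  obtain ⟨u, -, hu⟩ := List.mem_map.1 ((testBit_maskOf _ _).1 hr)
  -- the conjugating coordinate element
  have hB := ev_lin T (C := e.2.2.2.2) (F := fun y => y * (W⁻¹ * O.σ y * W)) (by simp) (fun y hy z hz => by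
      obtain ⟨a, -, rfl⟩ := hy
      obtain ⟨b, hb', rfl⟩ := hz
      have hm : W⁻¹ * O.σ (ev T 10 a) * W ∈ base T := by
        rw [hWbase _ ⟨_, (lin_twist O a).1, (lin_twist O a).2.symm⟩, hW', (lin_twist O a).2,
          Fi22Two.conj_ev T (rep_spec T hinv).2.1 le_rfl]
        exact ⟨_, Fi22Two.act_lt T (rep_spec T hinv).2.1 le_rfl _, rfl⟩
      have hc := Fi22Two.base_comm T (⟨b, hb', rfl⟩ : ev T 10 b ∈ base T) hm
      rw [map_mul]
      calc ev T 10 a * ev T 10 b * (W⁻¹ * (O.σ (ev T 10 a) * O.σ (ev T 10 b)) * W)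
          = ev T 10 a * (ev T 10 b * (W⁻¹ * O.σ (ev T 10 a) * W)) * (W⁻¹ * O.σ (ev T 10 b) * W) := by group
        _ = _ := by rw [hc]; group)
    (fun k hk => by
      have hb := (Fi22Two.basis_spec hk).1
      obtain ⟨hj1, e1⟩ := twist_spec O hb
      obtain ⟨hj2, e2⟩ := (rep_spec T hinv).2.1 _ hj1
      have hval : W⁻¹ * O.σ (Fi22Two.gen T (basisIdx.getD k 0)) * W =
          ev T 10 (vec.getD ((perms.getD e.2.1 []).getD (twistPerm.getD (basisIdx.getD k 0) 0) 0) 0) := by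
        rw [← Fi22Two.delta_P T hb, O.moves, e1, Fi22Two.delta_P T hj1, hWbase _ (Fi22Two.gen_mem T hj1), hW',
          ← Fi22Two.delta_P T hj1, ← T.A.delta_apply, e2, Fi22Two.delta_P T hj2, (Fi22Two.ev_vec T hj2).2]
      have h2 : Nat.shiftLeft 1 k = 2 ^ k := Nat.one_shiftLeft k
      rw [(hcol k hk).2, h2]
      refine ⟨Nat.xor_lt_two_pow (n := 10) (Nat.pow_lt_pow_right (by norm_num) hk) (Fi22Two.ev_vec T hj2).1, ?_⟩
      show Fi22Two.gen T _ * _ = _
      rw [hval, (Fi22Two.ev_vec T hb).2, (Fi22Two.basis_spec hk).2]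
      exact (Fi22Two.ev_xor T le_rfl _ _).symm) 10 le_rfl u
  obtain ⟨hBlt, hum, hBu⟩ := hB
  rw [hu] at hBlt hBu
  have hvr : v = r ^^^ Nat.xor v r := by
    show v = r ^^^ (v ^^^ r)
    rw [Nat.xor_comm v r, ← Nat.xor_assoc, Nat.xor_self, Nat.zero_xor]
  have hstep : IsConj (O.σ * MulAut.conj (rep T i * ev T 10 r)) (O.σ * MulAut.conj (rep T i * ev T 10 v)) := by
    refine isConj_iff.2 ⟨MulAut.conj (ev T 10 u), ?_⟩
    rw [conj_mul_outer, hvr, Fi22Two.ev_xor T le_rfl, ← hBu, ← hW]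
    have hinvu : (ev T 10 u)⁻¹ = ev T 10 u := inv_eq_of_mul_eq_one_right (by
      rw [← Fi22Two.ev_xor T le_rfl, Nat.xor_self, Fi22Two.ev_zero])
    congr 2
    have hm : ev T 10 r ∈ base T := by
      obtain ⟨-, hr', -⟩ := ev_lin T (C := twistCols) (F := fun y => O.σ y) (map_one _) (fun y _ z _ => map_mul _ y z)
        (fun k hk => by
          have hb := (Fi22Two.basis_spec hk).1
          have hc := twist_clique.2.2.1
          simp only [List.all_eq_true, List.mem_range, Nat.beq_eq] at hc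
          obtain ⟨hj, e⟩ := twist_spec O hb
          rw [hc k hk]
          refine ⟨(Fi22Two.ev_vec T hj).1, ?_⟩
          show O.σ (Fi22Two.gen T _) = _
          rw [← Fi22Two.delta_P T hb, O.moves, e, Fi22Two.delta_P T hj, (Fi22Two.ev_vec T hj).2]) 10 le_rfl r
      exact hr'
    have hmW : W⁻¹ * O.σ (ev T 10 u) * W ∈ base T := by
      rw [hWbase _ ⟨_, (lin_twist O u).1, (lin_twist O u).2.symm⟩, hW', (lin_twist O u).2,
        Fi22Two.conj_ev T (rep_spec T hinv).2.1 le_rfl]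
      exact ⟨_, Fi22Two.act_lt T (rep_spec T hinv).2.1 le_rfl _, rfl⟩
    have hc1 : ev T 10 r * ev T 10 u = ev T 10 u * ev T 10 r := Fi22Two.base_comm T hm hum
    have hc2 := Fi22Two.base_comm T hmW (mul_mem hm hum)
    rw [hinvu]
    calc O.σ (ev T 10 u) * (W * ev T 10 r) * ev T 10 u
        = W * ((W⁻¹ * O.σ (ev T 10 u) * W) * (ev T 10 r * ev T 10 u)) := by group
      _ = W * (ev T 10 r * ev T 10 u * (W⁻¹ * O.σ (ev T 10 u) * W)) := by rw [hc2]
      _ = _ := by group
  have hconjs := List.all_eq_true.1 conjs_ok j (List.mem_range.2 hj)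
  rw [← heq, he] at hconjs
  simp only [Bool.and_eq_true, Nat.beq_eq, List.all_eq_true, List.mem_range, Nat.blt_eq, and_assoc] at hconjs
  obtain ⟨-, hconjs⟩ := hconjs
  obtain ⟨k, hk, hkr⟩ := List.mem_iff_getElem.1 hrm
  obtain ⟨hcase, -, hglt, hcok⟩ := hconjs k hk
  rw [List.getD_eq_getElem (reps.getD j []) 0 hk, hkr] at hcok
  obtain ⟨c, hcdef⟩ : ∃ c, c = (conjs.getD j []).getD k (0, []) := ⟨_, rfl⟩
  rw [← hcdef] at hcase hglt hcok
  have hslt : ∀ g ∈ coordWord moving basisIdx 10 r ++ prodWord Fi22Two.gens (permWord.getD i []), g < 9 :=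
    fun g hg => (List.mem_append.1 hg).elim (coordWord_lt _ g) (hwlt g)
  have htlt : ∀ g ∈ stdWords.getD c.1 [], g < 9 := by
    have : ∀ q : Fin 3, ∀ g ∈ stdWords.getD q.1 [], g < 9 := by decide +kernel
    exact this ⟨c.1, hcase⟩
  have hstd : O.σ * MulAut.conj (wordVal T.A.x (coordWord moving basisIdx 10 r ++
        prodWord Fi22Two.gens (permWord.getD i []))) * MulAut.conj (wordVal T.A.x (prodWord conjGens c.2)) =
      MulAut.conj (wordVal T.A.x (prodWord conjGens c.2)) *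
        (O.σ * MulAut.conj (wordVal T.A.x (stdWords.getD c.1 []))) := by
    refine ((O.moves_word _).mul (moves_conj _)).ext ((moves_conj _).mul (O.moves_word _)) fun g hg => Fin.ext ?_
    show ((O.π * T.A.f _) (T.A.f (wordVal T.A.x (prodWord conjGens c.2)) _)).1 =
      (T.A.f (wordVal T.A.x (prodWord conjGens c.2)) ((O.π * T.A.f (wordVal T.A.x (stdWords.getD c.1 []))) _)).1
    rw [O.outW_val hslt, walk_val hglt, walk_val hglt, O.outW_val htlt]
    simp only [conjOK, List.all_eq_true, Nat.beq_eq] at hcok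
    exact hcok _ (take_mem hg)
  rw [wordVal_append, ← Fi22Two.ev_eq_word] at hstd
  have hfin : IsConj t (O.σ * MulAut.conj (wordVal T.A.x (stdWords.getD c.1 []))) := by
    refine (hconj.trans hstep.symm).trans (isConj_iff.2 ⟨(MulAut.conj (wordVal T.A.x (prodWord conjGens c.2)))⁻¹, ?_⟩)
    rw [inv_inv, mul_assoc, inv_mul_eq_iff_eq_mul]
    exact hstd
  obtain ⟨c1, c2⟩ := c
  obtain rfl | rfl | rfl : c1 = 0 ∨ c1 = 1 ∨ c1 = 2 := by omega
  · left
    simpa [stdWords, wordVal] using hfin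
  · right; left
    exact hfin
  · right; right
    rw [← pair_val]
    exact hfin
where
  coordWord_lt (v : ℕ) : ∀ g ∈ coordWord moving basisIdx 10 v, g < 9 := by
    have : ∀ k ≤ 10, ∀ g ∈ coordWord moving basisIdx k v, g < 9 := by
      intro k hk
      induction k with
      | zero => simp [coordWord]
      | succ k ih =>
        intro g hg
        rw [coordWord] at hg
        cases hb : v.testBit k
        · rw [hb, cond_false] at hg; exact ih (by omega) g hg
        · rw [hb, cond_true, List.mem_append] at hg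
          exact hg.elim (Fi22Two.cliqueWord_lt (Fi22Two.basis_spec (by omega)).1 g) (ih (by omega) g)
    exact this 10 le_rfl
  pts_mem {g : ℕ} (hg : g < 9) : pts.getD g 0 ∈ pts :=
    (by decide +kernel : ∀ g < 9, pts.getD g 0 ∈ pts) g hg
  take_mem {g : ℕ} (hg : g < 9) : pts.getD g 0 ∈ pts.take 9 :=
    (by decide +kernel : ∀ g < 9, pts.getD g 0 ∈ pts.take 9) g hg

/-- Conjugate automorphisms fix equally many members. -/
theorem fixed_count_eq (hA : Fischer.Relations.TwoPair.Amb D) {φ ψ : MulAut G} (h : IsConj φ ψ) :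
    {x | x ∈ D ∧ φ x = x}.ncard = {x | x ∈ D ∧ ψ x = x}.ncard := by
  obtain ⟨c, rfl⟩ := isConj_iff.1 h
  rw [← Set.ncard_image_of_injective {x | x ∈ D ∧ φ x = x} c.injective]
  congr 1
  ext y
  constructor
  · rintro ⟨x, ⟨hx, hfix⟩, rfl⟩
    refine ⟨hA.pres c x hx, ?_⟩
    simp [MulAut.mul_apply, hfix]
  · rintro ⟨hy, hfix⟩
    refine ⟨c⁻¹ y, ⟨hA.pres c⁻¹ y hy, c.injective ?_⟩, by simp⟩
    simpa [MulAut.mul_apply] using hfix

/-- The three standard involutions are pairwise non-conjugate. -/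
theorem classes_ne (hA : Fischer.Relations.TwoPair.Amb D) :
    ¬ IsConj O.σ (O.σ * MulAut.conj (aEl T)) ∧ ¬ IsConj O.σ (O.σ * MulAut.conj (aEl T * bEl T)) ∧
      ¬ IsConj (O.σ * MulAut.conj (aEl T)) (O.σ * MulAut.conj (aEl T * bEl T)) := by
  have h0 := ncard_fixed T O (w := []) (by simp) big_fam big_scan big_head.2.1
  rw [wordVal, map_one, mul_one, big_head.1] at h0
  have h1 : {x | x ∈ D ∧ (O.σ * MulAut.conj (aEl T)) x = x}.ncard = 64 :=
    (ncard_fixed T O (conjWord_lt (by simp)) one_fam one_scan one_head.2.1).trans one_head.1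
  have h2 : {x | x ∈ D ∧ (O.σ * MulAut.conj (aEl T * bEl T)) x = x}.ncard = 72 := by
    rw [← pair_val]
    exact (ncard_fixed T O pairWord_lt two_fam two_scan two_head.2.1).trans two_head.1
  refine ⟨fun h => ?_, fun h => ?_, fun h => ?_⟩ <;> have := fixed_count_eq hA h <;> omega

end Cfsg.Lib.CosetEnum.Fi22Outer
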