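import Cfsg.Agent.Lib.CosetEnum.Fi22Outer.Twist

/-!
# Listed families of fixed members
-/

set_option autoImplicit false
set_option linter.unusedSectionVars false
set_option maxRecDepth 20000

namespace Cfsg.Lib.CosetEnum.Fi22Outer

open Fi22Norm (Fi22Tab)
open Fi22U62 (tabP)
open Fi22Out (twist)

variable {G : Type*} [Group G] [Finite G] {D : Set G} (T : Fi22Tab G D)

/-- The point of a position in a list. -/
def pt (pts : List ℕ) (i : ℕ) (h : pts.getD i 0 < 3510) : Fin 3510 := ⟨pts.getD i 0, h⟩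

variable {w pts : List ℕ} {mv : List (List ℕ)}

theorem fam_get (hf : famOK twist tabP 9 w pts mv = true) {i : ℕ} (hi : i < pts.length) :
    pts.getD i 0 < 3510 ∧ (∀ g ∈ mv.getD i [], g < 9) ∧ twalk tabP 9 (mv.getD i []) 0 = pts.getD i 0 ∧
      outW twist tabP 9 w (pts.getD i 0) = pts.getD i 0 := by
  simp only [famOK, List.all_eq_true, List.mem_range, Bool.and_eq_true, Nat.blt_eq, Nat.beq_eq, and_assoc] at hf
  exact hf i hi

theorem fam_mem (hf : famOK twist tabP 9 w pts mv = true) {q : Fin 3510} (hq : q.1 ∈ pts) :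
    ∃ i, ∃ hi : i < pts.length, q = pt pts i (fam_get hf hi).1 := by
  obtain ⟨i, hi, e⟩ := List.mem_iff_getElem.1 hq
  exact ⟨i, hi, Fin.ext (e.symm.trans (List.getD_eq_getElem _ _ hi).symm)⟩

theorem fixed_iff (O : Outer T) (hw : ∀ g ∈ w, g < 9) (hf : famOK twist tabP 9 w pts mv = true)
    (hs : fixScan twist tabP 9 w pts = true) (p : Fin 3510) :
    (O.π * T.A.f (wordVal T.A.x w)) p = p ↔ p.1 ∈ pts := by
  rw [Fin.ext_iff, O.outW_val hw]
  constructor
  · intro h
    have := scanOK_get hs p.1 (Nat.zero_le _) (by omega) (condsB_iff.2 (by simp))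
    rw [force_eq, h, Nat.beq_refl, cond_true, elemN_iff] at this
    exact this
  · intro h
    obtain ⟨i, hi, rfl⟩ := fam_mem hf h
    exact (fam_get hf hi).2.2.2

theorem moves_member (hf : famOK twist tabP 9 w pts mv = true) {i : ℕ} (hi : i < pts.length) (q : Fin 3510) :
    (T.A.f (T.A.delta (pt pts i (fam_get hf hi).1)) q).1 = twalk tabP 9 (conjWord (mv.getD i [])) q.1 := by
  obtain ⟨-, h1, h2, -⟩ := fam_get hf hi
  rw [pt, delta_conj h1 h2, walk_val (conjWord_lt h1)]

theorem conj_member (hf : famOK twist tabP 9 w pts mv = true) {i j k : ℕ} (hi : i < pts.length) (hj : j < pts.length)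
    (hk : k < pts.length) (h : twalk tabP 9 (conjWord (mv.getD i [])) (pts.getD j 0) = pts.getD k 0) :
    T.A.delta (pt pts i (fam_get hf hi).1) * T.A.delta (pt pts j (fam_get hf hj).1) *
      (T.A.delta (pt pts i (fam_get hf hi).1))⁻¹ = T.A.delta (pt pts k (fam_get hf hk).1) := by
  rw [← T.A.delta_apply]
  exact congrArg _ (Fin.ext ((moves_member T hf hi _).trans h))

theorem steps_induction (hf : famOK twist tabP 9 w pts mv = true) {P : Fin 3510 → Prop}
    (hP : ∀ i (hi : i < pts.length) q, P (pt pts i (fam_get hf hi).1) → P q →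
      P (T.A.f (T.A.delta (pt pts i (fam_get hf hi).1)) q)) :
    ∀ (t : List (ℕ × ℕ)) (s : ℕ), stepsFam tabP 9 pts mv t s = true →
      (∀ k < s, ∀ hk : k < pts.length, P (pt pts k (fam_get hf hk).1)) →
      ∀ k, ∀ hk : k < pts.length, P (pt pts k (fam_get hf hk).1)
  | [], s, h, hs => by
    rw [stepsFam, Nat.beq_eq] at h
    exact fun k hk => hs k (h ▸ hk) hk
  | (p, g) :: t, s, h, hs => by
    simp only [stepsFam, Bool.and_eq_true, Nat.blt_eq, Nat.beq_eq, and_assoc] at h
    obtain ⟨h1, h2, h3, h4, h5⟩ := h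
    refine steps_induction hf hP t (s + 1) h5 fun k hk hkl => ?_
    rcases Nat.lt_or_ge k s with hlt | hge
    · exact hs k hlt hkl
    · obtain rfl : k = s := by omega
      have hgl : g < pts.length := h2.trans h3
      have := hP g hgl _ (hs g h2 hgl) (hs p h1 (h1.trans h3))
      have e : T.A.f (T.A.delta (pt pts g (fam_get hf hgl).1)) (pt pts p (fam_get hf (h1.trans h3)).1) =
          pt pts k (fam_get hf hkl).1 := Fin.ext ((moves_member T hf hgl _).trans h4)
      exact e ▸ this

/-- Members of a family lie in what the first ones generate. -/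
theorem mem_closure_first (hf : famOK twist tabP 9 w pts mv = true) {t : List (ℕ × ℕ)} {s : ℕ}
    (hst : stepsFam tabP 9 pts mv t s = true) {H : Subgroup G}
    (hH : ∀ k < s, ∀ hk : k < pts.length, T.A.delta (pt pts k (fam_get hf hk).1) ∈ H) {q : Fin 3510}
    (hq : q.1 ∈ pts) : T.A.delta q ∈ H := by
  obtain ⟨i, hi, rfl⟩ := fam_mem hf hq
  refine steps_induction T hf (P := fun r => T.A.delta r ∈ H) (fun a _ r ha hr => ?_) t s hst hH i hi
  rw [T.A.delta_apply]
  exact mul_mem (mul_mem ha hr) (inv_mem ha)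

/-- The number of fixed members. -/
theorem ncard_fixed (O : Outer T) (hw : ∀ g ∈ w, g < 9) (hf : famOK twist tabP 9 w pts mv = true)
    (hs : fixScan twist tabP 9 w pts = true) (hn : pts.Nodup) :
    {x | x ∈ D ∧ (O.σ * MulAut.conj (wordVal T.A.x w)) x = x}.ncard = pts.length := by
  have hD : ∀ q, T.A.delta q ∈ D := fun q => (Set.ext_iff.1 T.class_eq _).1 ((T.A.isConj_iff_exists _).2 ⟨q, rfl⟩)
  have himg : {x | x ∈ D ∧ (O.σ * MulAut.conj (wordVal T.A.x w)) x = x} =
      T.A.delta '' {q : Fin 3510 | q.1 ∈ pts} := by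
    ext x
    constructor
    · rintro ⟨hx, hfix⟩
      obtain ⟨q, rfl⟩ := (T.A.isConj_iff_exists x).1 ((Set.ext_iff.1 T.class_eq x).2 hx)
      rw [O.moves_word w q] at hfix
      exact ⟨q, (fixed_iff T O hw hf hs q).1 (T.A.delta_injective hfix), rfl⟩
    · rintro ⟨q, hq, rfl⟩
      exact ⟨hD q, by rw [O.moves_word w q, (fixed_iff T O hw hf hs q).2 hq]⟩
  rw [himg, Set.ncard_image_of_injective _ T.A.delta_injective, ← List.toFinset_card_of_nodup hn,
    ← Set.ncard_coe_finset, ← Set.ncard_image_of_injective {q : Fin 3510 | q.1 ∈ pts} Fin.val_injective]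
  congr 1
  ext v
  simp only [Set.mem_image, List.coe_toFinset, Set.mem_ofPred_eq]
  constructor
  · rintro ⟨q, hq, rfl⟩; exact hq
  · intro hv
    obtain ⟨i, hi, rfl⟩ := List.mem_iff_getElem.1 hv
    exact ⟨⟨_, (List.getD_eq_getElem pts 0 hi) ▸ (fam_get hf hi).1⟩, hv, rfl⟩

theorem act_get {acts : List (List ℕ)} (ha : actFamOK tabP 9 pts mv acts = true) {j i : ℕ} (hj : j < acts.length)
    (hi : i < pts.length) : (acts.getD j []).getD i 0 < pts.length ∧
      twalk tabP 9 (conjWord (mv.getD j [])) (pts.getD i 0) = pts.getD ((acts.getD j []).getD i 0) 0 ∧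
      (acts.getD j []).getD ((acts.getD j []).getD i 0) 0 = i := by
  simp only [actFamOK, List.all_eq_true, List.mem_range, Bool.and_eq_true, Nat.blt_eq, Nat.beq_eq, and_assoc] at ha
  exact ha j hj i hi

end Cfsg.Lib.CosetEnum.Fi22Outer
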