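import Cfsg.Agent.Lib.CosetEnum.Fi22Outer.Family
import Cfsg.Agent.Lib.CosetEnum.Fi22O8.Main
import Cfsg.Agent.S0296

/-!
# The fixed points of the twist
-/

set_option autoImplicit false
set_option linter.unusedSectionVars false
set_option maxRecDepth 20000

namespace Cfsg.Lib.CosetEnum.Fi22Outer

open Fi22Norm (Fi22Tab)
open Fi22U62 (tabP)
open Fi22Out (twist)
open Fi22O8 (big core oneClass dPt tPt)
open Cfsg.Lib.O8Two (OGrp OmGrp)

variable {G : Type*} [Group G] [Finite G] {D : Set G} (T : Fi22Tab G D)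

theorem exists_core_equiv : Nonempty (core T ≃* ↥OmGrp) := by
  obtain ⟨e, -⟩ := Fi22O8.exists_oneClass_equiv T
  obtain ⟨hc1, hc2⟩ := Fi22O8.core_map T e
  exact ⟨(Subgroup.subgroupOfEquivOfLe (Fi22O8.core_le_oneClass T)).symm.trans ((MulEquiv.subgroupCongr hc1).trans
    ((e.subgroupMap (commutator (oneClass T))).trans (MulEquiv.subgroupCongr hc2)))⟩

theorem core_simple : IsSimpleGroup (core T) := by
  obtain ⟨eJ⟩ := exists_core_equiv T
  haveI : IsSimpleGroup (Cfsg.POmega (ZMod 2) O8Two.QQ) := Cfsg.Agent.S0296.result (F := ZMod 2) 4 le_rfl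
  let e : core T ≃* Cfsg.POmega (ZMod 2) O8Two.QQ := eJ.trans
    ((QuotientGroup.quotientMulEquivOfEq O8Two.center_omega).trans QuotientGroup.quotientBot).symm
  haveI := e.toEquiv.nontrivial
  exact IsSimpleGroup.isSimpleGroup_of_surjective (f := e.symm.toMonoidHom) e.symm.surjective

theorem card_big : Nat.card (big T) = 1045094400 := by
  obtain ⟨e⟩ := Fi22O8.big_equiv T
  rw [Nat.card_congr e.toEquiv, Fi22O8.card_aut_omega,
    show Nat.card ↥OmGrp = 174182400 from CoOne.card_omega]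

theorem core_le_big : core T ≤ big T := (Fi22O8.core_le_oneClass T).trans (Fi22O8.oneClass_le_big T)

/-- Elements of the group listed by the fixed members. -/
theorem delta_mem_big {q : Fin 3510} (hq : q.1 ∈ bigPts) : T.A.delta q ∈ big T := by
  refine mem_closure_first T big_fam big_steps (fun k hk hkl => ?_) hq
  obtain ⟨-, -, h, -⟩ := big_head
  simp only [List.all_eq_true, List.mem_range, elemN_iff] at h
  rcases List.mem_append.1 (h k hk) with h' | h'
  · obtain ⟨i, hi, e⟩ := List.mem_iff_getElem.1 h'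
    refine Subgroup.subset_closure (Or.inr ⟨⟨i, Fi22O8.pts_ok.1 ▸ hi⟩, congrArg T.A.delta (Fin.ext ?_)⟩)
    exact (List.getD_eq_getElem _ _ hi).trans e
  · exact Subgroup.subset_closure (Or.inl (congrArg T.A.delta (Fin.ext (List.mem_singleton.1 h'))))

/-- An element normalising the group and its inverse normalise its subgroup of index six. -/
theorem conj_mem_core {g : G} (h1 : ∀ y ∈ big T, g * y * g⁻¹ ∈ big T) (h2 : ∀ y ∈ big T, g⁻¹ * y * g ∈ big T) :
    ∀ x ∈ core T, g * x * g⁻¹ ∈ core T := by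
  haveI := core_simple T
  have hn : ∀ z ∈ big T, ∀ y ∈ core T, z * y * z⁻¹ ∈ core T := fun z hz y hy =>
    (Subgroup.mem_normalizer_iff.1 (Fi22O8.core_normal T hz) y).1 hy
  let N : Subgroup (core T) := ((core T).comap (MulAut.conj g).toMonoidHom).subgroupOf (core T)
  have hN : N.Normal := ⟨fun y hy x => by
    have e : g * (x.1 * y.1 * x.1⁻¹) * g⁻¹ = g * x.1 * g⁻¹ * (g * y.1 * g⁻¹) * (g * x.1 * g⁻¹)⁻¹ := by group
    show g * (x.1 * y.1 * x.1⁻¹) * g⁻¹ ∈ core T
    rw [e]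
    exact hn _ (h1 _ (core_le_big T x.2)) _ hy⟩
  rcases hN.eq_bot_or_eq_top with h | h
  · exfalso
    obtain ⟨x, hx⟩ := exists_ne (1 : core T)
    refine hx (Subtype.ext ?_)
    refine conj_eq_one_iff.1 (Fi22O8.centralizer_core T (c := g * x.1 * g⁻¹) fun y hy => ?_)
    obtain ⟨z, hz⟩ : ∃ z, z = g⁻¹ * y * g := ⟨_, rfl⟩
    have hzb : z ∈ big T := hz ▸ h2 _ (core_le_big T hy)
    have hc : x.1 * (z * x.1⁻¹ * z⁻¹) ∈ core T := mul_mem x.2 (hn _ hzb _ (inv_mem x.2))
    have hmem : (⟨_, hc⟩ : core T) ∈ N := by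
      show g * (x.1 * (z * x.1⁻¹ * z⁻¹)) * g⁻¹ ∈ core T
      rw [show g * (x.1 * (z * x.1⁻¹ * z⁻¹)) * g⁻¹ = (g * x.1 * g⁻¹) * y * (g * x.1 * g⁻¹)⁻¹ * y⁻¹ by
        rw [hz]; group]
      exact mul_mem (hn _ (h1 _ (core_le_big T x.2)) _ hy) (inv_mem hy)
    rw [h, Subgroup.mem_bot] at hmem
    have h1' : x.1 * (z * x.1⁻¹ * z⁻¹) = 1 := congrArg Subtype.val hmem
    have hcom : x.1 * z = z * x.1 := by
      calc x.1 * z = (x.1 * (z * x.1⁻¹ * z⁻¹)) * (z * x.1) := by group
        _ = z * x.1 := by rw [h1', one_mul]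
    have hy' : y = g * z * g⁻¹ := by rw [hz]; group
    show y * (g * x.1 * g⁻¹) = g * x.1 * g⁻¹ * y
    rw [hy']
    calc g * z * g⁻¹ * (g * x.1 * g⁻¹) = g * (z * x.1) * g⁻¹ := by group
      _ = g * x.1 * g⁻¹ * (g * z * g⁻¹) := by rw [← hcom]; group
  · intro x hx
    exact (h ▸ Subgroup.mem_top _ : (⟨x, hx⟩ : core T) ∈ N)

/-- An element normalising the group lies in it. -/
theorem mem_big_of_normal {g : G} (h1 : ∀ y ∈ big T, g * y * g⁻¹ ∈ big T) (h2 : ∀ y ∈ big T, g⁻¹ * y * g ∈ big T) :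
    g ∈ big T := by
  have hg : g ∈ Subgroup.normalizer (core T : Set G) := Subgroup.mem_normalizer_fintype (conj_mem_core T h1 h2)
  let ψ : big T →* MulAut (core T) :=
    (core T).normalizerMonoidHom.comp (Subgroup.inclusion (Fi22O8.core_normal T))
  have hinj : Function.Injective ψ := by
    refine (injective_iff_map_eq_one ψ).2 fun z hz => Subtype.ext (Fi22O8.centralizer_core T fun y hy => ?_)
    have h := congrArg Subtype.val (DFunLike.congr_fun hz ⟨y, hy⟩)
    have h' : (z : G) * y * (z : G)⁻¹ = y := h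
    exact (mul_inv_eq_iff_eq_mul.1 h').symm
  obtain ⟨eJ⟩ := exists_core_equiv T
  obtain ⟨eB⟩ := Fi22O8.big_equiv T
  have hsurj : Function.Surjective ψ := (Nat.bijective_iff_injective_and_card ψ).2 ⟨hinj,
    (Nat.card_congr eB.toEquiv).trans (Nat.card_congr (MulAut.congr eJ).toEquiv).symm⟩ |>.2
  obtain ⟨z, hz⟩ := hsurj ((core T).normalizerMonoidHom ⟨g, hg⟩)
  have : (z : G)⁻¹ * g = 1 := Fi22O8.centralizer_core T fun y hy => by
    have h := congrArg Subtype.val (DFunLike.congr_fun hz ⟨y, hy⟩)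
    have h' : (z : G) * y * (z : G)⁻¹ = g * y * g⁻¹ := h
    show y * ((z : G)⁻¹ * g) = (z : G)⁻¹ * g * y
    calc y * ((z : G)⁻¹ * g) = (z : G)⁻¹ * ((z : G) * y * (z : G)⁻¹) * g := by group
      _ = (z : G)⁻¹ * g * y := by rw [h']; group
  rw [← inv_mul_eq_one.1 this]
  exact z.2

variable {T} (O : Outer T)

theorem pi_fixed_iff (p : Fin 3510) : O.π p = p ↔ p.1 ∈ bigPts := by
  have := fixed_iff T O (w := []) (by simp) big_fam big_scan p
  rwa [wordVal, map_one, mul_one] at this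

theorem gen_mem_list : ∀ x ∈ insert (tPt T) (Set.range (dPt T)), ∃ q : Fin 3510, q.1 ∈ bigPts ∧ T.A.delta q = x := by
  obtain ⟨-, -, -, h⟩ := big_head
  simp only [List.all_eq_true, elemN_iff] at h
  rintro x (rfl | ⟨k, rfl⟩)
  · exact ⟨_, h _ (List.mem_append.2 (Or.inr (List.mem_singleton.2 rfl))), rfl⟩
  · refine ⟨_, h _ (List.mem_append.2 (Or.inl ?_)), rfl⟩
    show Fi22O8.pts.getD k.1 0 ∈ Fi22O8.pts
    rw [List.getD_eq_getElem _ _ (Fi22O8.lt_pts_length k)]
    exact List.getElem_mem _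

/-- The group is the fixed subgroup. -/
theorem mem_big_iff (g : G) : g ∈ big T ↔ O.σ g = g := by
  constructor
  · intro hg
    induction hg using Subgroup.closure_induction with
    | mem x hx =>
      obtain ⟨q, hq, rfl⟩ := gen_mem_list x hx
      rw [O.moves, (pi_fixed_iff O q).2 hq]
    | one => exact map_one _
    | mul x y _ _ hx hy => rw [map_mul, hx, hy]
    | inv x _ hx => rw [map_inv, hx]
  intro hg
  have key : ∀ g, O.σ g = g → ∀ y ∈ big T, g * y * g⁻¹ ∈ big T := by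
    intro g hg y hy
    induction hy using Subgroup.closure_induction with
    | mem x hx =>
      obtain ⟨q, hq, rfl⟩ := gen_mem_list x hx
      rw [← T.A.delta_apply]
      refine delta_mem_big T ((pi_fixed_iff O _).1 ?_)
      rw [O.moves.comm_of_fixed hg, (pi_fixed_iff O q).2 hq]
    | one => simp
    | mul x y _ _ hx hy =>
      rw [show g * (x * y) * g⁻¹ = g * x * g⁻¹ * (g * y * g⁻¹) by group]
      exact mul_mem hx hy
    | inv x _ hx =>
      rw [show g * x⁻¹ * g⁻¹ = (g * x * g⁻¹)⁻¹ by group]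
      exact inv_mem hx
  refine mem_big_of_normal T (key g hg) fun y hy => ?_
  have := key g⁻¹ (by rw [map_inv, hg]) y hy
  rwa [inv_inv] at this

theorem twist_moves : ∃ g, ∃ hg : g < 9, twist.getP (Fi22Out.pts.getD g 0) ≠ Fi22Out.pts.getD g 0 := by
  decide +kernel

theorem Outer.not_inner : O.σ ∉ (MulAut.conj : G →* MulAut G).range := by
  rintro ⟨c, hc⟩
  have h1 : c = 1 := Fi22O8.centralizer_core T fun y hy => by
    have h := (mem_big_iff O y).1 (core_le_big T hy)
    rw [← hc, MulAut.conj_apply] at h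
    exact (mul_inv_eq_iff_eq_mul.1 h).symm
  rw [h1, map_one] at hc
  have hπ : O.π = 1 := O.moves.unique (hc ▸ moves_one)
  obtain ⟨g, hg, hne⟩ := twist_moves
  exact hne (by rw [← O.π_val ⟨_, pts_bound hg⟩, hπ]; rfl)

theorem Outer.order_two : orderOf O.σ = 2 :=
  orderOf_eq_prime (by rw [pow_two, O.sq]) fun h => O.not_inner (h ▸ one_mem _)

end Cfsg.Lib.CosetEnum.Fi22Outer
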