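import Cfsg.Agent.Lib.CosetEnum.Fi22O8.Perms

/-!
# A group generated by a family maps onto a group with a family acting alike
-/

set_option autoImplicit false

namespace Cfsg.Lib.CosetEnum.Fi22Outer

open Fi22O8 (mem_closure_gens exists_perm)

variable {G H : Type*} [Group G] [Group H] {n m : ℕ}

/-- A family acting like one with trivial centraliser maps onto it. -/
theorem exists_hom_of_perms {d : Fin n → G} {v : Fin n → H} {gi : Fin m → Fin n}
    {π : Fin m → Fin n → Fin n} (hd : ∀ j k, d (gi j) * d k * (d (gi j))⁻¹ = d (π j k))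
    (hv : ∀ j k, v (gi j) * v k * (v (gi j))⁻¹ = v (π j k)) (hπ : ∀ j, Function.Bijective (π j))
    (hgen : ∀ k, (d k, v k) ∈ Subgroup.closure (Set.range fun j => (d (gi j), v (gi j))))
    (hdv : ∀ a b, d a = d b → v a = v b)
    (hvc : ∀ g ∈ Subgroup.closure (Set.range v), (∀ k, g * v k * g⁻¹ = v k) → g = 1) :
    ∃ φ : Subgroup.closure (Set.range d) →* Subgroup.closure (Set.range v),
      Function.Surjective φ ∧
        ∀ k, φ ⟨d k, Subgroup.subset_closure ⟨k, rfl⟩⟩ = ⟨v k, Subgroup.subset_closure ⟨k, rfl⟩⟩ := by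
  obtain ⟨R, hR⟩ : ∃ R : Subgroup (G × H), R = Subgroup.closure (Set.range fun j => (d (gi j), v (gi j))) :=
    ⟨_, rfl⟩
  let p : Fin n → G × H := fun k => (d k, v k)
  have hp : ∀ j k, p (gi j) * p k * (p (gi j))⁻¹ = p (π j k) := fun j k => Prod.ext (hd j k) (hv j k)
  have hpk : ∀ k, p k ∈ R := fun k => hR ▸ hgen k
  have hRle : ∀ z ∈ R, z.1 ∈ Subgroup.closure (Set.range d) ∧ z.2 ∈ Subgroup.closure (Set.range v) := by
    intro z hz
    rw [hR] at hz
    induction hz using Subgroup.closure_induction with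
    | mem x hx =>
      obtain ⟨j, rfl⟩ := hx
      exact ⟨Subgroup.subset_closure ⟨_, rfl⟩, Subgroup.subset_closure ⟨_, rfl⟩⟩
    | one => exact ⟨one_mem _, one_mem _⟩
    | mul x y _ _ hx hy => exact ⟨mul_mem hx.1 hy.1, mul_mem hx.2 hy.2⟩
    | inv x _ hx => exact ⟨inv_mem hx.1, inv_mem hx.2⟩
  have hker : ∀ z ∈ R, z.1 = 1 → z.2 = 1 := by
    intro z hz h1
    obtain ⟨σ, hσ⟩ := exists_perm hp hπ (hR ▸ hz)
    refine hvc _ (hRle z hz).2 fun k => ?_
    have e1 : d k = d (σ k) := by simpa [p, h1] using congrArg Prod.fst (hσ k)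
    have e2 : z.2 * v k * z.2⁻¹ = v (σ k) := congrArg Prod.snd (hσ k)
    rw [e2, ← hdv _ _ e1]
  let f : R →* Subgroup.closure (Set.range d) :=
    ((MonoidHom.fst G H).comp R.subtype).codRestrict _ fun z => (hRle _ z.2).1
  let g : R →* Subgroup.closure (Set.range v) :=
    ((MonoidHom.snd G H).comp R.subtype).codRestrict _ fun z => (hRle _ z.2).2
  have hf : Function.Bijective f := by
    refine ⟨?_, ?_⟩
    · rw [injective_iff_map_eq_one]
      rintro ⟨z, hz⟩ h
      have h1 : z.1 = 1 := congrArg Subtype.val h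
      exact Subtype.ext (Prod.ext h1 (hker z hz h1))
    · rintro ⟨x, hx⟩
      have hx' : x ∈ R.map (MonoidHom.fst G H) := by
        refine (Subgroup.closure_le _).2 ?_ hx
        rintro _ ⟨k, rfl⟩
        exact ⟨p k, hpk k, rfl⟩
      obtain ⟨z, hz, rfl⟩ := hx'
      exact ⟨⟨z, hz⟩, Subtype.ext rfl⟩
  have hg : Function.Surjective g := by
    rintro ⟨x, hx⟩
    have hx' : x ∈ R.map (MonoidHom.snd G H) := by
      refine (Subgroup.closure_le _).2 ?_ hx
      rintro _ ⟨k, rfl⟩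
      exact ⟨p k, hpk k, rfl⟩
    obtain ⟨z, hz, rfl⟩ := hx'
    exact ⟨⟨z, hz⟩, Subtype.ext rfl⟩
  refine ⟨g.comp (MulEquiv.ofBijective f hf).symm.toMonoidHom, hg.comp (MulEquiv.surjective _), fun k => ?_⟩
  have : (MulEquiv.ofBijective f hf).symm ⟨d k, Subgroup.subset_closure ⟨k, rfl⟩⟩ = ⟨p k, hpk k⟩ := by
    rw [MulEquiv.symm_apply_eq]
    rfl
  show g ((MulEquiv.ofBijective f hf).symm _) = _
  rw [this]
  rfl

end Cfsg.Lib.CosetEnum.Fi22Outer
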