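import Cfsg.Agent.Lib.CosetEnum.Fi22Outer.Fixed
import Cfsg.Agent.Lib.CosetEnum.Fi22Outer.Hom
import Cfsg.Agent.Lib.SpSix.Symp
import Cfsg.Agent.Lib.Fischer.Relations.Centralizer.Order

/-!
# The fixed points of the twist composed with a fixed member
-/

set_option autoImplicit false
set_option linter.unusedSectionVars false
set_option maxRecDepth 20000

namespace Cfsg.Lib.CosetEnum.Fi22Outer

open Fi22Norm (Fi22Tab)
open Fi22U62 (tabP)
open Fi22Out (twist)
open Fi22O8 (big core oneClass dPt tPt)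
open Cfsg.Lib.SpSix (SpGrp)
open scoped Matrix

variable {G : Type*} [Group G] [Finite G] {D : Set G} (T : Fi22Tab G D)

/-- The first member fixed by the twist. -/
def aEl : G := wordVal T.A.x (conjWord [])

theorem aEl_eq : aEl T = T.A.delta ⟨0, by norm_num⟩ :=
  (delta_conj (m := []) (by simp) (by rfl) (by norm_num)).symm

theorem one_pt (i : Fin 64) : onePts.getD i.1 0 < 3510 := (fam_get one_fam (one_head.1.symm ▸ i.2)).1

/-- A member fixed by the twist composed with the first member. -/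
noncomputable def dOne (i : Fin 64) : G := T.A.delta ⟨onePts.getD i.1 0, one_pt i⟩

theorem dOne_zero : dOne T 0 = aEl T := by
  rw [aEl_eq]
  exact congrArg T.A.delta (Fin.ext one_head.2.2.1)

theorem dOne_facts (i : Fin 64) : Commute (aEl T) (dOne T i) ∧ onePts.getD i.1 0 ∈ bigPts ∧
    dOne T i = dPt T (Fin.ofNat 120 (onePlace.getD i.1 0)) ∧
    (i.1 ≠ 0 → oneWit.getD i.1 0 < 64 ∧
      comB tabP 9 (oneMove.getD i.1 []) (onePts.getD (oneWit.getD i.1 0) 0) = false) := by
  obtain ⟨-, -, -, -, h⟩ := one_head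
  simp only [List.all_eq_true, List.mem_range, Bool.and_eq_true, Bool.or_eq_true, Nat.blt_eq, Nat.beq_eq,
    elemN_iff, Bool.not_eq_true', and_assoc] at h
  obtain ⟨h1, h2, h3, h4, h5⟩ := h i.1 i.2
  refine ⟨?_, h4, congrArg T.A.delta (Fin.ext ?_), fun hi => h5.resolve_left hi⟩
  · rw [aEl_eq]
    exact (comB_iff (m := []) (by simp) (by rfl) (by norm_num) ⟨_, one_pt i⟩).1 h1
  · show onePts.getD i.1 0 = Fi22O8.pts.getD (Fin.ofNat 120 (onePlace.getD i.1 0)).1 0
    rw [← h3]
    congr 1
    exact (Nat.mod_eq_of_lt h2).symm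

theorem dOne_mem_big (i : Fin 64) : dOne T i ∈ big T := delta_mem_big T (dOne_facts T i).2.1

theorem dOne_comm (i : Fin 64) : Commute (aEl T) (dOne T i) := (dOne_facts T i).1

theorem aEl_mem_big : aEl T ∈ big T := dOne_zero T ▸ dOne_mem_big T 0

theorem aEl_mem_D : aEl T ∈ D :=
  aEl_eq T ▸ (Set.ext_iff.1 T.class_eq _).1 ((T.A.isConj_iff_exists _).2 ⟨_, rfl⟩)

variable {T} (O : Outer T)

theorem Outer.fix_a : O.σ (aEl T) = aEl T := (mem_big_iff O _).1 (aEl_mem_big T)

/-- The elements fixed by the twist composed with the first member. -/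
theorem mem_one_iff (g : G) : (O.σ * MulAut.conj (aEl T)) g = g ↔
    g ∈ big T ⊓ Subgroup.centralizer ({aEl T} : Set G) := by
  rw [Subgroup.mem_inf, Subgroup.mem_centralizer_singleton_iff, mem_big_iff O]
  constructor
  · intro hg
    have hw : ∀ g ∈ conjWord [], g < 9 := conjWord_lt (by simp)
    have hperm : ∀ g, (O.σ * MulAut.conj (aEl T)) g = g → ∀ q : Fin 3510, q.1 ∈ onePts →
        (T.A.f g q).1 ∈ onePts := fun g hg q hq => by
      refine (fixed_iff T O hw one_fam one_scan _).1 ?_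
      exact ((O.moves_word (conjWord [])).comm_of_fixed hg q).trans
        (congrArg _ ((fixed_iff T O hw one_fam one_scan q).2 hq))
    have hmem : ∀ i : Fin 64, onePts.getD i.1 0 ∈ onePts := fun i => by
      rw [List.getD_eq_getElem _ _ (one_head.1.symm ▸ i.2)]
      exact List.getElem_mem _
    have hconj : ∀ g, (O.σ * MulAut.conj (aEl T)) g = g → ∀ i, ∃ j, g * dOne T i * g⁻¹ = dOne T j := by
      intro g hg i
      obtain ⟨j, hj, e⟩ := List.mem_iff_getElem.1 (hperm g hg ⟨_, one_pt i⟩ (hmem i))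
      refine ⟨⟨j, one_head.1 ▸ hj⟩, ?_⟩
      rw [dOne, ← T.A.delta_apply]
      exact congrArg T.A.delta (Fin.ext (e.symm.trans (List.getD_eq_getElem _ _ hj).symm))
    have hcom : g * aEl T = aEl T * g := by
      obtain ⟨i, hi⟩ := hconj g hg 0
      rw [dOne_zero] at hi
      rcases eq_or_ne i 0 with rfl | hne
      · rw [dOne_zero, mul_inv_eq_iff_eq_mul] at hi
        exact hi
      exfalso
      obtain ⟨hw', hnot⟩ := (dOne_facts T i).2.2.2 fun h => hne (Fin.ext h)
      obtain ⟨j, hj⟩ := hconj g⁻¹ (by rw [map_inv, hg]) ⟨_, hw'⟩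
      rw [inv_inv] at hj
      have hc := (dOne_comm T j).map (MulAut.conj g).toMonoidHom
      simp only [MulEquiv.coe_toMonoidHom, MulAut.conj_apply, hi, ← hj] at hc
      rw [show g * (g⁻¹ * dOne T ⟨_, hw'⟩ * g) * g⁻¹ = dOne T ⟨_, hw'⟩ by group] at hc
      obtain ⟨hb, hmv, hpath, -⟩ := fam_get one_fam (one_head.1.symm ▸ i.2 : i.1 < onePts.length)
      have := (comB_iff hmv hpath hb ⟨_, one_pt ⟨_, hw'⟩⟩).2 hc
      rw [hnot] at this
      exact Bool.false_ne_true this
    refine ⟨?_, hcom⟩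
    rw [MulAut.mul_apply, MulAut.conj_apply, ← hcom, mul_inv_cancel_right] at hg
    exact hg
  · rintro ⟨hg, hcom⟩
    rw [MulAut.mul_apply, MulAut.conj_apply, ← hcom, mul_inv_cancel_right, hg]

theorem big_link : ((List.range 10).all fun k => (List.range 360).any fun i => (List.range 360).any fun j =>
    Nat.beq (twalk tabP 9 (conjWord (bigMove.getD j [])) (twalk tabP 9 (conjWord (bigMove.getD i [])) 0))
      (bigPts.getD k 0)) = true := by decide +kernel

/-- The group is transitive on its members. -/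
theorem big_transitive (O : Outer T) {q : Fin 3510} (hq : q.1 ∈ bigPts) :
    ∃ z ∈ big T, z * aEl T * z⁻¹ = T.A.delta q := by
  have hmem : ∀ i (hi : i < bigPts.length), T.A.delta (pt bigPts i (fam_get big_fam hi).1) ∈ big T := fun i hi =>
    delta_mem_big T (show bigPts.getD i 0 ∈ bigPts by
      rw [List.getD_eq_getElem _ _ hi]; exact List.getElem_mem _)
  obtain ⟨i, hi, rfl⟩ := fam_mem big_fam hq
  refine steps_induction T big_fam (P := fun r => ∃ z ∈ big T, z * aEl T * z⁻¹ = T.A.delta r) ?_ bigStep 10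
    big_steps ?_ i hi
  · rintro i hi r - ⟨z, hz, e⟩
    refine ⟨T.A.delta (pt bigPts i (fam_get big_fam hi).1) * z, mul_mem (hmem i hi) hz, ?_⟩
    rw [T.A.delta_apply, ← e]
    group
  · intro k hk hkl
    have h := big_link
    simp only [List.all_eq_true, List.any_eq_true, List.mem_range, Nat.beq_eq] at h
    obtain ⟨i, hi, j, hj, e⟩ := h k hk
    have hi' : i < bigPts.length := big_head.1.symm ▸ hi
    have hj' : j < bigPts.length := big_head.1.symm ▸ hj
    refine ⟨T.A.delta (pt bigPts j (fam_get big_fam hj').1) * T.A.delta (pt bigPts i (fam_get big_fam hi').1),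
      mul_mem (hmem j hj') (hmem i hi'), ?_⟩
    rw [show T.A.delta (pt bigPts j (fam_get big_fam hj').1) * T.A.delta (pt bigPts i (fam_get big_fam hi').1) *
        aEl T * (T.A.delta (pt bigPts j (fam_get big_fam hj').1) * T.A.delta (pt bigPts i (fam_get big_fam hi').1))⁻¹ =
        T.A.delta (pt bigPts j (fam_get big_fam hj').1) * (T.A.delta (pt bigPts i (fam_get big_fam hi').1) *
          aEl T * (T.A.delta (pt bigPts i (fam_get big_fam hi').1))⁻¹) *
          (T.A.delta (pt bigPts j (fam_get big_fam hj').1))⁻¹ by group, aEl_eq, ← T.A.delta_apply, ← T.A.delta_apply]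
    refine congrArg T.A.delta (Fin.ext ?_)
    rw [moves_member T big_fam hj', moves_member T big_fam hi']
    exact e

theorem card_one (O : Outer T) : Nat.card ↥(big T ⊓ Subgroup.centralizer ({aEl T} : Set G)) = 2903040 := by
  have hD : ∀ q, T.A.delta q ∈ D := fun q => (Set.ext_iff.1 T.class_eq _).1 ((T.A.isConj_iff_exists _).2 ⟨q, rfl⟩)
  have hof : ∀ x ∈ D, O.σ x = x → ∃ q : Fin 3510, q.1 ∈ bigPts ∧ T.A.delta q = x := fun x hx hfix => by
    obtain ⟨q, rfl⟩ := (T.A.isConj_iff_exists x).1 ((Set.ext_iff.1 T.class_eq x).2 hx)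
    rw [O.moves] at hfix
    exact ⟨q, (pi_fixed_iff O q).1 (T.A.delta_injective hfix), rfl⟩
  have h1 := Fischer.Relations.card_conj_orbit (K := big T) (X := {x | x ∈ D ∧ O.σ x = x}) (x := aEl T)
    ⟨aEl_mem_D T, O.fix_a⟩
    (fun k hk y hy => by
      obtain ⟨q, -, rfl⟩ := hof y hy.1 hy.2
      refine ⟨by rw [← T.A.delta_apply]; exact hD _, ?_⟩
      rw [map_mul, map_mul, map_inv, hy.2, (mem_big_iff O k).1 hk])
    fun y hy => by
      obtain ⟨q, hq, rfl⟩ := hof y hy.1 hy.2
      exact big_transitive O hq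
  have h2 := ncard_fixed T O (w := []) (by simp) big_fam big_scan big_head.2.1
  rw [wordVal, map_one, mul_one, big_head.1] at h2
  rw [card_big, Nat.card_coe_set_eq, h2] at h1
  omega

/-- The vector of a member. -/
def spVec (i : Fin 64) : Fin 3 ⊕ Fin 3 → ZMod 2 :=
  Sum.elim (fun k => if (oneVec.getD i.1 0).testBit k.1 then 1 else 0)
    (fun k => if (oneVec.getD i.1 0).testBit (3 + k.1) then 1 else 0)

/-- The transvection of a vector. -/
def spTv (w : Fin 3 ⊕ Fin 3 → ZMod 2) : SpGrp :=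
  ⟨Cfsg.sympTransvection 3 w 1, Cfsg.Lib.Linear.Symp.sympTransvection_mem w 1⟩

/-- The generators of the family. -/
def giOne (j : Fin 8) : Fin 64 := ⟨j.1, by omega⟩

/-- Their actions. -/
def actOne (j : Fin 8) (k : Fin 64) : Fin 64 := Fin.ofNat 64 ((oneAct.getD j.1 []).getD k.1 0)

theorem spVec_ok : (∀ j k, spVec k + Cfsg.sympForm 3 (ZMod 2) (spVec k) (spVec (giOne j)) • spVec (giOne j) =
    spVec (actOne j k)) ∧ (∀ w, ∃ k, spVec k = w) ∧ spVec 0 = 0 ∧ oneAct.length = 8 ∧
    (∀ k : Fin 64, k.1 < 8 ∨ ∃ j, ∃ p : Fin 64, p.1 < k.1 ∧ actOne j p = k) := by decide +kernel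

theorem spTv_mulVec (w x : Fin 3 ⊕ Fin 3 → ZMod 2) :
    (spTv w).1 *ᵥ x = x + Cfsg.sympForm 3 (ZMod 2) x w • w := by
  show Cfsg.sympTransvection 3 w 1 *ᵥ x = _
  rw [Cfsg.Lib.Linear.Symp.sympTransvection_mulVec, one_mul, Cfsg.Lib.Linear.Symp.spB_apply]

theorem spTv_conj (A : SpGrp) (w : Fin 3 ⊕ Fin 3 → ZMod 2) : A * spTv w * A⁻¹ = spTv (A.1 *ᵥ w) := by
  rw [mul_inv_eq_iff_eq_mul]
  refine Subtype.ext (Matrix.ext_of_mulVec_single fun c => ?_)
  rw [Submonoid.coe_mul, Submonoid.coe_mul, ← Matrix.mulVec_mulVec, ← Matrix.mulVec_mulVec, spTv_mulVec, spTv_mulVec,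
    Matrix.mulVec_add, Matrix.mulVec_smul]
  have h := (Cfsg.Lib.Linear.Symp.mem_symplecticGroup_iff A.1).1 A.2 (Pi.single c 1) w
  rw [Cfsg.Lib.Linear.Symp.spB_apply, Cfsg.Lib.Linear.Symp.spB_apply] at h
  rw [h]

theorem spTv_zero : spTv 0 = 1 := by
  refine Subtype.ext ?_
  show Cfsg.sympTransvection 3 0 1 = 1
  simp [Cfsg.sympTransvection]

theorem spTv_closure : Subgroup.closure (Set.range fun k => spTv (spVec k)) = ⊤ := by
  rw [eq_top_iff, ← Cfsg.Agent.S0765.result (F := ZMod 2) 3, Subgroup.closure_le]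
  rintro A ⟨w, c, hA⟩
  rcases (by decide : ∀ a : ZMod 2, a = 0 ∨ a = 1) c with rfl | rfl
  · have : A = 1 := Subtype.ext (by rw [hA]; simp [Cfsg.sympTransvection])
    rw [this]
    exact one_mem _
  · obtain ⟨k, rfl⟩ := spVec_ok.2.1 w
    exact Subgroup.subset_closure ⟨k, Subtype.ext hA.symm⟩

theorem actOne_conj (j : Fin 8) (k : Fin 64) :
    dOne T (giOne j) * dOne T k * (dOne T (giOne j))⁻¹ = dOne T (actOne j k) ∧
      actOne j (actOne j k) = k := by
  have hj : j.1 < oneAct.length := spVec_ok.2.2.2.1.symm ▸ j.2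
  have hk : k.1 < onePts.length := one_head.1.symm ▸ k.2
  obtain ⟨h1, h2, h3⟩ := act_get one_act hj hk
  have e : (actOne j k).1 = (oneAct.getD j.1 []).getD k.1 0 := Nat.mod_eq_of_lt (lt_of_lt_of_eq h1 one_head.1)
  refine ⟨?_, ?_⟩
  · rw [dOne, dOne, dOne, ← T.A.delta_apply]
    refine congrArg T.A.delta (Fin.ext ?_)
    show _ = onePts.getD (actOne j k).1 0
    rw [e, ← h2]
    exact moves_member T one_fam (by rw [one_head.1]; exact (giOne j).2) _
  · refine Fin.ext ?_
    show ((oneAct.getD j.1 []).getD (actOne j k).1 0) % 64 = k.1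
    rw [e, h3]
    exact Nat.mod_eq_of_lt k.2

theorem exists_one_hom : ∃ φ : Subgroup.closure (Set.range (dOne T)) →* SpGrp,
    Function.Surjective φ ∧ ∀ k, φ ⟨dOne T k, Subgroup.subset_closure ⟨k, rfl⟩⟩ = spTv (spVec k) := by
  have hv : ∀ j k, spTv (spVec (giOne j)) * spTv (spVec k) * (spTv (spVec (giOne j)))⁻¹ =
      spTv (spVec (actOne j k)) := fun j k => by rw [spTv_conj, spTv_mulVec, spVec_ok.1]
  obtain ⟨φ, hφ, hφk⟩ := exists_hom_of_perms (d := dOne T) (v := fun k => spTv (spVec k)) (gi := giOne) (π := actOne)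
    (fun j k => (actOne_conj j k).1) hv
    (fun j => Function.Involutive.bijective fun k => (actOne_conj (T := T) j k).2) (fun k => by
      induction' hn : k.1 using Nat.strong_induction_on with n ih generalizing k
      subst hn
      rcases spVec_ok.2.2.2.2 k with h | ⟨j, p, hp, rfl⟩
      · exact Subgroup.subset_closure ⟨⟨k.1, h⟩, rfl⟩
      · rw [← (actOne_conj (T := T) j p).1, ← hv j p]
        have hj : (dOne T (giOne j), spTv (spVec (giOne j))) ∈
            Subgroup.closure (Set.range fun i => (dOne T (giOne i), spTv (spVec (giOne i)))) :=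
          Subgroup.subset_closure ⟨j, rfl⟩
        exact mul_mem (mul_mem hj (ih _ hp p rfl)) (inv_mem hj))
    (fun a b h => by
      have h' : onePts.getD a.1 0 = onePts.getD b.1 0 := congrArg Fin.val (T.A.delta_injective h)
      have : a = b := Fin.ext (by
        have ha : a.1 < onePts.length := lt_of_lt_of_eq a.2 one_head.1.symm
        have hb : b.1 < onePts.length := lt_of_lt_of_eq b.2 one_head.1.symm
        rw [List.getD_eq_getElem _ _ ha, List.getD_eq_getElem _ _ hb] at h'
        exact one_head.2.1.getElem_inj_iff.1 h')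
      rw [this])
    (fun g _ hfix => by
      have : g ∈ Subgroup.center SpGrp := Subgroup.mem_center_iff.2 fun h => by
        have hh : h ∈ Subgroup.centralizer ({g} : Set SpGrp) := by
          refine (Subgroup.closure_le _).2 ?_ (spTv_closure ▸ Subgroup.mem_top h)
          rintro _ ⟨k, rfl⟩
          exact Subgroup.mem_centralizer_singleton_iff.2 (mul_inv_eq_iff_eq_mul.1 (hfix k)).symm
        exact Subgroup.mem_centralizer_singleton_iff.1 hh
      rwa [SpSix.center_Sp, Subgroup.mem_bot] at this)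
  refine ⟨((MulEquiv.subgroupCongr spTv_closure).trans Subgroup.topEquiv).toMonoidHom.comp φ,
    (MulEquiv.surjective ((MulEquiv.subgroupCongr spTv_closure).trans Subgroup.topEquiv)).comp hφ, fun k => ?_⟩
  rw [MonoidHom.comp_apply, hφk]
  rfl

/-- The fixed group of the twist composed with the first member is a double cover split off by the member. -/
theorem one_equiv (O : Outer T) :
    Nonempty (↥(big T ⊓ Subgroup.centralizer ({aEl T} : Set G)) ≃* Multiplicative (ZMod 2) × Cfsg.PSp 3 (ZMod 2)) := by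
  haveI : Fact (Nat.Prime 2) := ⟨Nat.prime_two⟩
  set H := Subgroup.closure (Set.range (dOne T)) with hH
  have hle : H ≤ big T ⊓ Subgroup.centralizer ({aEl T} : Set G) := (Subgroup.closure_le _).2 (by
    rintro _ ⟨k, rfl⟩
    exact ⟨dOne_mem_big T k, Subgroup.mem_centralizer_singleton_iff.2 (dOne_comm T k).symm.eq⟩)
  have ha : aEl T ∈ H := Subgroup.subset_closure ⟨0, dOne_zero T⟩
  obtain ⟨φ, hφ, hφk⟩ := exists_one_hom (T := T)
  let a' : H := ⟨aEl T, ha⟩
  have hφa : φ a' = 1 := by
    have : a' = ⟨dOne T 0, Subgroup.subset_closure ⟨0, rfl⟩⟩ := Subtype.ext (dOne_zero T).symm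
    rw [this, hφk, spVec_ok.2.2.1, spTv_zero]
  let N : Subgroup H := (core T).subgroupOf H
  haveI : N.Normal := (Subgroup.normal_subgroupOf_iff_le_normalizer_inf).2
    (fun h hh => by
      have hb : h ∈ big T := (hle hh).1
      refine Subgroup.mem_normalizer_fintype fun y hy => ⟨?_, ?_⟩
      · exact (Subgroup.mem_normalizer_iff.1 (Fi22O8.core_normal T hb) y).1 hy.1
      · exact H.mul_mem (H.mul_mem hh hy.2) (H.inv_mem hh))
  have hsq : aEl T * aEl T = 1 := by
    rw [← dOne_zero T, (dOne_facts T 0).2.2.1]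
    exact Fi22O8.dPt_sq T _
  have ha1 : aEl T ∉ core T := by
    intro h
    rw [← dOne_zero T, (dOne_facts T 0).2.2.1] at h
    obtain ⟨e, he⟩ := Fi22O8.exists_oneClass_equiv T
    obtain ⟨hc1, hc2⟩ := Fi22O8.core_map T e
    have h1 : (⟨_, Fi22O8.core_le_oneClass T h⟩ : oneClass T) ∈ commutator (oneClass T) := hc1 ▸ h
    have h2 := Subgroup.mem_map_of_mem e.toMonoidHom h1
    rw [hc2] at h2
    exact Fi22O8.tv_notMem _ (he (Fin.ofNat 120 (onePlace.getD (0 : Fin 64).1 0)) ▸ h2)
  have hN : N.index = 2 := by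
    refine Subgroup.index_eq_two_iff.2 ⟨a', fun b => ?_⟩
    have key : ∀ b : H, (b : G) ∈ core T ∨ (b : G) * aEl T ∈ core T := by
      rintro ⟨b, hb⟩
      induction hb using Subgroup.closure_induction with
      | mem x hx =>
        obtain ⟨k, rfl⟩ := hx
        right
        show dOne T k * aEl T ∈ core T
        rw [← dOne_zero T, (dOne_facts T 0).2.2.1, (dOne_facts T k).2.2.1]
        exact Fi22O8.pair_mem_core T _ _
      | one => exact Or.inl (one_mem _)
      | mul x y hx hy ihx ihy =>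
        have hcy : aEl T * y = y * aEl T :=
          (Subgroup.mem_centralizer_singleton_iff.1 (hle hy).2).symm
        rcases ihx with h | h <;> rcases ihy with h' | h'
        · exact Or.inl (mul_mem h h')
        · exact Or.inr (by rw [mul_assoc]; exact mul_mem h h')
        · exact Or.inr (by rw [mul_assoc, ← hcy, ← mul_assoc]; exact mul_mem h h')
        · left
          have := mul_mem h h'
          rwa [show x * aEl T * (y * aEl T) = x * (aEl T * y) * aEl T by group, hcy,
            show x * (y * aEl T) * aEl T = x * y * (aEl T * aEl T) by group, hsq, mul_one] at this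
      | inv x hx ih =>
        have hcx : aEl T * x = x * aEl T :=
          (Subgroup.mem_centralizer_singleton_iff.1 (hle hx).2).symm
        rcases ih with h | h
        · exact Or.inl (inv_mem h)
        · right
          have := inv_mem h
          rwa [mul_inv_rev, inv_eq_of_mul_eq_one_right hsq, show aEl T * x⁻¹ = x⁻¹ * aEl T from
            (show Commute (aEl T) x from hcx).inv_right.eq] at this
    rcases key b with h | h
    · refine Or.inr ⟨h, fun h' => ha1 ?_⟩
      have h'' : (b : G) * aEl T ∈ core T := h'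
      have := mul_mem (inv_mem h) h''
      rwa [inv_mul_cancel_left] at this
    · refine Or.inl ⟨h, fun h' => ha1 ?_⟩
      have h'' : (b : G) ∈ core T := h'
      have := mul_mem (inv_mem h'') h
      rwa [inv_mul_cancel_left] at this
  let χ : H →* H ⧸ N := QuotientGroup.mk' N
  let Φ : H →* (H ⧸ N) × SpGrp := χ.prod φ
  have hker : Nat.card φ.ker * 1451520 = Nat.card H := by
    rw [← φ.ker.card_mul_index, Subgroup.index_ker, MonoidHom.range_eq_top.2 hφ, Subgroup.card_top, SpSix.card_Sp]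
  have hHle := Subgroup.card_le_of_le hle
  rw [card_one O] at hHle
  have hk2 : 2 ≤ Nat.card φ.ker := by
    have : Nontrivial φ.ker := ⟨⟨⟨a', hφa⟩, 1, fun h => ha1 (by
      have e : aEl T = 1 := congrArg (fun z : φ.ker => ((z : H) : G)) h
      rw [e]; exact one_mem _)⟩⟩
    exact Finite.one_lt_card
  have hk : Nat.card φ.ker = 2 := by omega
  have hcard : Nat.card H = 2903040 := by omega
  have hall : H = big T ⊓ Subgroup.centralizer ({aEl T} : Set G) :=
    Subgroup.eq_of_le_of_card_ge hle (by rw [card_one O, hcard])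
  have hinj : Function.Injective Φ := by
    refine (injective_iff_map_eq_one Φ).2 fun z hz => ?_
    obtain ⟨h1, h2⟩ := Prod.ext_iff.1 hz
    have hz1 : (z : G) ∈ core T := (QuotientGroup.eq_one_iff z).1 h1
    have ho : orderOf a' = 2 := orderOf_eq_prime (by rw [pow_two]; exact Subtype.ext hsq)
      (fun h => ha1 (by rw [show aEl T = 1 from congrArg Subtype.val h]; exact one_mem _))
    have hker2 : φ.ker = Subgroup.zpowers a' := (Subgroup.eq_of_le_of_card_ge (Subgroup.zpowers_le.2 hφa)
      (by rw [hk, Nat.card_zpowers, ho])).symm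
    have hzm : z ∈ φ.ker := h2
    rw [hker2] at hzm
    obtain ⟨n, rfl⟩ := Subgroup.mem_zpowers_iff.1 hzm
    rw [← zpow_mod_orderOf, ho] at hz1 ⊢
    rcases Int.emod_two_eq n with h | h
    · rw [show ((2 : ℕ) : ℤ) = 2 from rfl, h, zpow_zero]
    · rw [show ((2 : ℕ) : ℤ) = 2 from rfl, h, zpow_one] at hz1
      exact absurd hz1 ha1
  have hcQ : Nat.card (H ⧸ N) = 2 := hN
  have hbij : Function.Bijective Φ := (Nat.bijective_iff_injective_and_card Φ).2 ⟨hinj, by
    rw [Nat.card_prod, hcQ, SpSix.card_Sp, hcard]⟩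
  have eQ : H ⧸ N ≃* Multiplicative (ZMod 2) := mulEquivOfPrimeCardEq (p := 2) hcQ (by simp)
  have eS : SpGrp ≃* Cfsg.PSp 3 (ZMod 2) :=
    ((QuotientGroup.quotientMulEquivOfEq SpSix.center_Sp).trans QuotientGroup.quotientBot).symm
  exact ⟨(MulEquiv.subgroupCongr hall.symm).trans ((MulEquiv.ofBijective Φ hbij).trans (eQ.prodCongr eS))⟩

end Cfsg.Lib.CosetEnum.Fi22Outer
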