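import Cfsg.Agent.Lib.CosetEnum.Fi22Two.Thompson
import Cfsg.Agent.Lib.CosetEnum.Fi22Outer.ChecksFix
import Cfsg.Agent.Lib.CosetEnum.Trans.Twist
import Cfsg.Agent.Lib.CosetEnum.Fi22OutMin.Check

/-!
# The twist as an automorphism, and fixed members
-/

set_option autoImplicit false
set_option linter.unusedSectionVars false
set_option maxRecDepth 20000

namespace Cfsg.Lib.CosetEnum.Fi22Outer

open Fi22Norm (Fi22Tab)
open Fi22U62 (tabP)
open Fi22Out (twist)

variable {G : Type*} [Group G] [Finite G] {D : Set G} {T : Fi22Tab G D}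

/-- An automorphism moving the transpositions as a permutation of the points. -/
def Moves (T : Fi22Tab G D) (φ : MulAut G) (ρ : Equiv.Perm (Fin 3510)) : Prop :=
  ∀ p, φ (T.A.delta p) = T.A.delta (ρ p)

theorem moves_one : Moves T 1 1 := fun _ => rfl

theorem Moves.mul {φ ψ : MulAut G} {ρ τ : Equiv.Perm (Fin 3510)} (h : Moves T φ ρ) (h' : Moves T ψ τ) :
    Moves T (φ * ψ) (ρ * τ) := fun p => by
  rw [MulAut.mul_apply, h', h]
  rfl

theorem moves_conj (g : G) : Moves T (MulAut.conj g) (T.A.f g) := fun p => by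
  rw [MulAut.conj_apply, T.A.delta_apply]

theorem pts_bound {g : ℕ} (hg : g < 9) : Fi22Out.pts.getD g 0 < 3510 :=
  (by decide +kernel : ∀ g < 9, Fi22Out.pts.getD g 0 < 3510) g hg

theorem Moves.ext {φ ψ : MulAut G} {ρ τ : Equiv.Perm (Fin 3510)} (h : Moves T φ ρ) (h' : Moves T ψ τ)
    (he : ∀ g (hg : g < 9), ρ ⟨Fi22Out.pts.getD g 0, pts_bound hg⟩ = τ ⟨Fi22Out.pts.getD g 0, pts_bound hg⟩) :
    φ = ψ := by
  have := MonoidHom.eq_of_eqOn_dense T.A.gen (f := φ.toMonoidHom) (g := ψ.toMonoidHom) (by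
    rintro _ ⟨g, hg, rfl⟩
    have hg9 : g < 9 := T.hk ▸ hg
    have hp : T.A.delta ⟨Fi22Out.pts.getD g 0, pts_bound hg9⟩ = T.A.x g := by
      rw [← T.A.delta_pts hg]
      congr 2
      rw [T.hp]
    show φ (T.A.x g) = ψ (T.A.x g)
    rw [← hp, h, h', he g hg9])
  exact MulEquiv.ext fun x => DFunLike.congr_fun this x

theorem Moves.unique {φ : MulAut G} {ρ τ : Equiv.Perm (Fin 3510)} (h : Moves T φ ρ) (h' : Moves T φ τ) : ρ = τ :=
  Equiv.ext fun p => T.A.delta_injective ((h p).symm.trans (h' p))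

/-- An element fixed by an automorphism commutes with its permutation. -/
theorem Moves.comm_of_fixed {φ : MulAut G} {ρ : Equiv.Perm (Fin 3510)} (h : Moves T φ ρ) {g : G} (hg : φ g = g)
    (p : Fin 3510) : ρ (T.A.f g p) = T.A.f g (ρ p) := by
  refine T.A.delta_injective ?_
  rw [← h, T.A.delta_apply, T.A.delta_apply, map_mul, map_mul, map_inv, hg, h]

/-- The twist as an automorphism with its permutation of the points. -/
structure Outer (T : Fi22Tab G D) where
  σ : MulAut G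
  π : Equiv.Perm (Fin 3510)
  π_val : ∀ p, (π p).1 = twist.getP p.1
  moves : Moves T σ π

variable (T) in
theorem exists_outer : Nonempty (Outer T) := by
  obtain ⟨σ, π, h1, h2⟩ := T.A.exists_twist (Pi := twist) (sub := Fi22Out.sub) (by decide)
    (by rw [T.hZ, T.hk]; exact Fi22OutMin.twist_valid) (by rw [T.base.first]; decide +kernel) T.base.pos T.base.gen
    (by decide +kernel)
  exact ⟨⟨σ, π, h1, fun p => (h2 p).symm⟩⟩

theorem walk_val {w : List ℕ} (hw : ∀ g ∈ w, g < 9) (p : Fin 3510) :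
    (T.A.f (wordVal T.A.x w) p).1 = twalk tabP 9 w p.1 := by
  rw [T.A.walk_apply (fun g hg => T.hk.symm ▸ hw g hg), T.hZ, T.hk]

theorem delta_conj {m : List ℕ} (hm : ∀ g ∈ m, g < 9) {p : ℕ} (hp : twalk tabP 9 m 0 = p) (h : p < 3510) :
    T.A.delta ⟨p, h⟩ = wordVal T.A.x (conjWord m) :=
  T.delta_moved (by simpa [List.all_eq_true] using hm) (by exact hp) h

theorem conjWord_lt {m : List ℕ} (hm : ∀ g ∈ m, g < 9) : ∀ g ∈ conjWord m, g < 9 := by
  intro g hg
  simp only [conjWord, List.mem_append, List.mem_reverse, List.mem_singleton] at hg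
  rcases hg with (h | rfl) | h
  exacts [hm g h, by norm_num, hm g h]

theorem comB_iff {m : List ℕ} (hm : ∀ g ∈ m, g < 9) {p : ℕ} (hp : twalk tabP 9 m 0 = p) (h : p < 3510)
    (q : Fin 3510) : comB tabP 9 m q.1 = true ↔ Commute (T.A.delta ⟨p, h⟩) (T.A.delta q) := by
  rw [comB, Nat.beq_eq, ← walk_val (T := T) (conjWord_lt hm), ← delta_conj hm hp h, ← Fin.ext_iff]
  exact (T.A.commute_delta_iff _ _).symm

namespace Outer

variable (O : Outer T)

theorem outW_val {w : List ℕ} (hw : ∀ g ∈ w, g < 9) (p : Fin 3510) :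
    ((O.π * T.A.f (wordVal T.A.x w)) p).1 = outW twist tabP 9 w p.1 := by
  rw [Equiv.Perm.mul_apply, O.π_val, walk_val hw, outW]

theorem moves_word (w : List ℕ) :
    Moves T (O.σ * MulAut.conj (wordVal T.A.x w)) (O.π * T.A.f (wordVal T.A.x w)) :=
  O.moves.mul (moves_conj _)

theorem sq : O.σ * O.σ = 1 := by
  refine (O.moves.mul O.moves).ext moves_one fun g hg => Fin.ext ?_
  rw [Equiv.Perm.mul_apply, O.π_val, O.π_val]
  exact (by decide +kernel : ∀ g < 9, twist.getP (twist.getP (Fi22Out.pts.getD g 0)) = Fi22Out.pts.getD g 0) g hg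

theorem sq_apply (g : G) : O.σ (O.σ g) = g := DFunLike.congr_fun O.sq g

theorem conj_swap (g : G) : O.σ * MulAut.conj g = MulAut.conj (O.σ g) * O.σ := by
  refine MulEquiv.ext fun x => ?_
  simp [MulAut.mul_apply]

end Outer

end Cfsg.Lib.CosetEnum.Fi22Outer
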