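import Cfsg.Agent.Lib.CosetEnum.Fi22Outer.TwoBound
import Cfsg.Agent.Lib.CosetEnum.GFFour
import Cfsg.Agent.Lib.Fischer.Relations.TwoPair.Fitting

/-!
# The fixed group of the twist composed with a product of two fixed members
-/

set_option autoImplicit false
set_option linter.unusedSectionVars false
set_option linter.style.haveILetI false
set_option maxRecDepth 20000

namespace Cfsg.Lib.CosetEnum.Fi22Outer

open Fi22Norm (Fi22Tab)
open Fi22U62 (tabP)
open Cfsg.Lib.Linear
open scoped Matrix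

/-- The coordinates of the minus space of dimension six. -/
abbrev M6 : Type := (Fin 2 ⊕ Fin 2) ⊕ Fin 2

/-- The quadratic form. -/
abbrev Qm : (M6 → ZMod 2) → ZMod 2 := Cfsg.quadFormMinus 2 (ZMod 2) 1 1

/-- The isometries. -/
abbrev O6 : Subgroup (GL M6 (ZMod 2)) := Cfsg.isometryGroup (ZMod 2) Qm

/-- The vector of a member. -/
def twoV (i : Fin 72) : M6 → ZMod 2 :=
  Sum.elim (Sum.elim (fun k => if (twoVec.getD i.1 0).testBit k.1 then 1 else 0)
    (fun k => if (twoVec.getD i.1 0).testBit (2 + k.1) then 1 else 0))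
    (fun k => if (twoVec.getD i.1 0).testBit (4 + k.1) then 1 else 0)

/-- The generators of the family. -/
def giTwo (j : Fin 7) : Fin 72 := ⟨j.1, by omega⟩

/-- Their actions. -/
def actTwo (j : Fin 7) (k : Fin 72) : Fin 72 := Fin.ofNat 72 ((twoAct.getD j.1 []).getD k.1 0)

/-- The member with the same vector. -/
def mate (i : Fin 72) : Fin 72 := Fin.ofNat 72 (twoPartner.getD i.1 0)

theorem twoV_ok : (∀ j k, twoV k + (Qm (twoV (giTwo j) + twoV k) + Qm (twoV (giTwo j)) + Qm (twoV k)) • twoV (giTwo j) =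
      twoV (actTwo j k)) ∧ (∀ k, Qm (twoV k) = 1) ∧ (∀ v, Qm v = 1 → ∃ k, twoV k = v) ∧
    (∀ c : M6, ∃ a b, (Pi.single c 1 : M6 → ZMod 2) = twoV a + twoV b) ∧
    (∀ k : Fin 72, k.1 < 7 ∨ ∃ j, ∃ p : Fin 72, p.1 < k.1 ∧ actTwo j p = k) ∧
    (∀ k, twoV (mate k) = twoV k) := by decide +kernel

theorem mate_card : Fintype.card {i : Fin 72 // i.1 < (mate i).1} = 36 := by decide +kernel

theorem two_anis : ∀ z₁ z₂ : ZMod 2, z₁ ^ 2 + 1 * z₁ * z₂ + 1 * z₂ ^ 2 = 0 → z₁ = 0 ∧ z₂ = 0 := by decide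

theorem twoV_ne (k : Fin 72) : Qm (twoV k) ≠ 0 := by rw [twoV_ok.2.1 k]; exact one_ne_zero

/-- The transvection of a member. -/
noncomputable def vTwo (k : Fin 72) : ↥O6 :=
  ⟨Orth.rGL Qm (twoV k), by
    obtain ⟨B, C⟩ := Orth.exists_space_minus (F := ZMod 2) 2 1 1 two_anis
    exact Orth.rGL_mem C (twoV_ne k)⟩

theorem vTwo_conj (j : Fin 7) (k : Fin 72) :
    vTwo (giTwo j) * vTwo k * (vTwo (giTwo j))⁻¹ = vTwo (actTwo j k) := by
  obtain ⟨B, C⟩ := Orth.exists_space_minus (F := ZMod 2) 2 1 1 two_anis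
  refine Subtype.ext ?_
  show Orth.rGL Qm (twoV (giTwo j)) * Orth.rGL Qm (twoV k) * (Orth.rGL Qm (twoV (giTwo j)))⁻¹ =
    Orth.rGL Qm (twoV (actTwo j k))
  rw [Orth.rGL_conj C (twoV_ne k) (Orth.rGL_mem C (twoV_ne _)), Orth.rGL2_act C (twoV_ne _), ← twoV_ok.1 j k,
    show Qm (twoV (giTwo j) + twoV k) = Qm (twoV (giTwo j)) + Qm (twoV k) + B (twoV (giTwo j)) (twoV k)
      from C.add _ _]
  congr 3
  generalize Qm (twoV (giTwo j)) = a
  generalize Qm (twoV k) = b
  generalize B (twoV (giTwo j)) (twoV k) = c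
  revert a b c
  decide

theorem vTwo_fix {g : ↥O6} (h : ∀ k, g * vTwo k * g⁻¹ = vTwo k) : g = 1 := by
  obtain ⟨B, C⟩ := Orth.exists_space_minus (F := ZMod 2) 2 1 1 two_anis
  have hv : ∀ k, g.1.val *ᵥ twoV k = twoV k := by
    intro k
    have h1 : g.1 * Orth.rGL Qm (twoV k) * g.1⁻¹ = Orth.rGL Qm (twoV k) := congrArg Subtype.val (h k)
    rw [Orth.rGL_conj C (twoV_ne k) g.2] at h1
    have hQ : Qm (g.1.val *ᵥ twoV k) ≠ 0 := by rw [Orth.mem_iso.1 g.2]; exact twoV_ne k
    have hne : g.1.val *ᵥ twoV k ≠ 0 := fun e => hQ (by rw [e]; exact C.zero)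
    obtain ⟨x, hx⟩ := C.exists_pair hne
    have h2 := congrArg (fun m : GL M6 (ZMod 2) => m.val *ᵥ x) h1
    simp only [Orth.rGL2_act C hQ, Orth.rGL2_act C (twoV_ne k), hx, one_smul, add_right_inj] at h2
    rcases Orth.zmod2_cases' (B (twoV k) x) with hb | hb
    · rw [hb, zero_smul] at h2
      exact absurd h2 hne
    · rw [hb, one_smul] at h2
      exact h2
  refine Subtype.ext (Units.ext (Matrix.ext_of_mulVec_single fun c => ?_))
  obtain ⟨a, b, hab⟩ := twoV_ok.2.2.2.1 c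
  show g.1.val *ᵥ Pi.single c 1 = (1 : Matrix M6 M6 (ZMod 2)) *ᵥ Pi.single c 1
  rw [Matrix.one_mulVec, hab, Matrix.mulVec_add, hv, hv]

theorem vTwo_closure : Subgroup.closure (Set.range vTwo) = ⊤ := by
  obtain ⟨B, C⟩ := Orth.exists_space_minus (F := ZMod 2) 2 1 1 two_anis
  rw [eq_top_iff]
  rintro ⟨g, hg⟩ -
  have key : Subgroup.closure {g | ∃ v, Qm v ≠ 0 ∧ g = Orth.rGL Qm v} ≤
      (Subgroup.closure (Set.range vTwo)).map O6.subtype := by
    rw [Subgroup.closure_le]
    rintro _ ⟨v, hv, rfl⟩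
    obtain ⟨k, rfl⟩ := twoV_ok.2.2.1 v ((Orth.zmod2_cases' (Qm v)).resolve_left hv)
    exact ⟨vTwo k, Subgroup.subset_closure ⟨k, rfl⟩, rfl⟩
  obtain ⟨y, hy, e⟩ := key (Orth.iso_le_closure_rGL C (by simp) hg)
  rwa [show (⟨g, hg⟩ : ↥O6) = y from Subtype.ext e.symm]

theorem card_O6 : Nat.card ↥O6 = 51840 := by
  have hO := (Orth.counts_minus (F := ZMod 2) (a := 1) (b := 1) 2 two_anis).2.2
  rw [Nat.card_zmod] at hO
  exact_mod_cast hO.trans (show _ = ((51840 : ℕ) : ℤ) by
    simp only [Finset.prod_range_succ, Finset.prod_range_zero]; rfl)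

theorem gf4_card : Fintype.card GF4 = 2 ^ 2 := rfl

theorem O6_two_bot (N : Subgroup ↥O6) [N.Normal] (hN : IsPGroup 2 N) : N = ⊥ := by
  obtain ⟨e⟩ := Fischer.Relations.TwoPair.isometry_six_minus_equiv gf4_card
  haveI : (N.map e.toMonoidHom).Normal := Subgroup.Normal.map inferInstance _ e.surjective
  have h := Fischer.Relations.TwoPair.aut_two_bot gf4_card (N.map e.toMonoidHom) (hN.map _)
  exact (Subgroup.map_eq_bot_iff_of_injective _ e.injective).1 h

variable {G : Type*} [Group G] [Finite G] {D : Set G} {T : Fi22Tab G D}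

theorem actTwo_conj (j : Fin 7) (k : Fin 72) :
    dTwo T (giTwo j) * dTwo T k * (dTwo T (giTwo j))⁻¹ = dTwo T (actTwo j k) ∧ actTwo j (actTwo j k) = k := by
  have hj : j.1 < twoAct.length := two_head.2.2.1.symm ▸ j.2
  obtain ⟨h1, h2, h3⟩ := act_get two_act hj (two_lt k)
  have e : (actTwo j k).1 = (twoAct.getD j.1 []).getD k.1 0 := Nat.mod_eq_of_lt (lt_of_lt_of_eq h1 two_head.1)
  refine ⟨?_, ?_⟩
  · rw [dTwo, dTwo, dTwo, ← T.A.delta_apply]
    refine congrArg T.A.delta (Fin.ext ?_)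
    show _ = twoPts.getD (actTwo j k).1 0
    rw [e, ← h2]
    exact moves_member T two_fam (two_lt (giTwo j)) _
  · refine Fin.ext ?_
    show ((twoAct.getD j.1 []).getD (actTwo j k).1 0) % 72 = k.1
    rw [e, h3]
    exact Nat.mod_eq_of_lt k.2

/-- The group generated by the fixed members maps onto the isometries. -/
theorem exists_two_hom : ∃ φ : Subgroup.closure (Set.range (dTwo T)) →* ↥O6,
    Function.Surjective φ ∧ ∀ k, φ ⟨dTwo T k, Subgroup.subset_closure ⟨k, rfl⟩⟩ = vTwo k := by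
  obtain ⟨φ, hφ, hφk⟩ := exists_hom_of_perms (d := dTwo T) (v := vTwo) (gi := giTwo) (π := actTwo)
    (fun j k => (actTwo_conj j k).1) vTwo_conj
    (fun j => Function.Involutive.bijective fun k => (actTwo_conj (T := T) j k).2) (fun k => by
      induction' hn : k.1 using Nat.strong_induction_on with n ih generalizing k
      subst hn
      rcases twoV_ok.2.2.2.2.1 k with h | ⟨j, p, hp, rfl⟩
      · exact Subgroup.subset_closure ⟨⟨k.1, h⟩, rfl⟩
      · rw [← (actTwo_conj (T := T) j p).1, ← vTwo_conj j p]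
        have hj : (dTwo T (giTwo j), vTwo (giTwo j)) ∈
            Subgroup.closure (Set.range fun i => (dTwo T (giTwo i), vTwo (giTwo i))) :=
          Subgroup.subset_closure ⟨j, rfl⟩
        exact mul_mem (mul_mem hj (ih _ hp p rfl)) (inv_mem hj))
    (fun a b h => by rw [tpt_inj (T.A.delta_injective h)])
    (fun g _ hfix => vTwo_fix hfix)
  refine ⟨((MulEquiv.subgroupCongr vTwo_closure).trans Subgroup.topEquiv).toMonoidHom.comp φ,
    (MulEquiv.surjective ((MulEquiv.subgroupCongr vTwo_closure).trans Subgroup.topEquiv)).comp hφ, fun k => ?_⟩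
  rw [MonoidHom.comp_apply, hφk]
  rfl

theorem dTwo_sq (k : Fin 72) : dTwo T k * dTwo T k = 1 := by
  obtain ⟨g, hg⟩ := T.A.trans (tpt k)
  show T.A.delta _ * T.A.delta _ = 1
  rw [← hg, T.A.delta_move, T.base.gen]
  rw [show g * T.A.x 0 * g⁻¹ * (g * T.A.x 0 * g⁻¹) = g * (T.A.x 0 * T.A.x 0) * g⁻¹ by group, T.A.sq]
  group

theorem mate_facts (i : Fin 72) : mate (mate i) = i ∧ Commute (dTwo T i) (dTwo T (mate i)) ∧
    ∀ j, T.A.f (dTwo T (mate i) * dTwo T i) (tpt j) = tpt j ∨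
      T.A.f (dTwo T (mate i) * dTwo T i) (tpt j) = tpt (mate j) := by
  have h := pairs_ok
  simp only [List.all_eq_true, List.mem_range, Bool.and_eq_true, Bool.or_eq_true, Nat.blt_eq, Nat.beq_eq,
    force_eq, and_assoc] at h
  obtain ⟨h1, h2, -, -, h5, h6⟩ := h i.1 i.2
  have hm : (mate i).1 = twoPartner.getD i.1 0 := Nat.mod_eq_of_lt h1
  refine ⟨Fin.ext ?_, ?_, fun j => ?_⟩
  · show twoPartner.getD (mate i).1 0 % 72 = i.1
    rw [hm, h2]
    exact Nat.mod_eq_of_lt i.2
  · refine (comB_two T i (tpt (mate i))).1 ?_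
    show comB tabP 9 _ (twoPts.getD (mate i).1 0) = true
    rw [hm]
    exact h5
  · have hmj : (mate j).1 = twoPartner.getD j.1 0 := Nat.mod_eq_of_lt (h j.1 j.2).1
    obtain ⟨bi, mi, pi', -⟩ := fam_get two_fam (two_lt i)
    obtain ⟨bm, mm, pm, -⟩ := fam_get two_fam (two_lt (mate i))
    have e : dTwo T (mate i) * dTwo T i = wordVal T.A.x
        (conjWord (twoMove.getD i.1 []) ++ conjWord (twoMove.getD (mate i).1 [])) := by
      rw [wordVal_append, ← delta_conj mi pi' bi, ← delta_conj mm pm bm]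
      rfl
    have hw : ∀ g ∈ conjWord (twoMove.getD i.1 []) ++ conjWord (twoMove.getD (mate i).1 []), g < 9 := fun g hg =>
      (List.mem_append.1 hg).elim (conjWord_lt mi g) (conjWord_lt mm g)
    have hval : (T.A.f (dTwo T (mate i) * dTwo T i) (tpt j)).1 = twalk tabP 9
        (conjWord (twoMove.getD i.1 []) ++ conjWord (twoMove.getD (twoPartner.getD i.1 0) [])) (twoPts.getD j.1 0) := by
      rw [e, walk_val hw, hm]
      rfl
    rcases h6 j.1 j.2 with h7 | h7
    · exact Or.inl (Fin.ext (hval.trans h7))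
    · refine Or.inr (Fin.ext (hval.trans (h7.trans ?_)))
      show _ = twoPts.getD (mate j).1 0
      rw [hmj]

/-- The products of members with the same vector. -/
noncomputable def ePair (T : Fi22Tab G D) (i : Fin 72) : G := dTwo T (mate i) * dTwo T i

/-- Their span. -/
noncomputable def eGroup (T : Fi22Tab G D) : Subgroup G := Subgroup.closure (Set.range (ePair T))

theorem eGroup_act {z : G} (hz : z ∈ eGroup T) :
    ∀ j, (T.A.f z (tpt j) = tpt j ∧ T.A.f z (tpt (mate j)) = tpt (mate j)) ∨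
      (T.A.f z (tpt j) = tpt (mate j) ∧ T.A.f z (tpt (mate j)) = tpt j) := by
  induction hz using Subgroup.closure_induction with
  | mem x hx =>
    obtain ⟨i, rfl⟩ := hx
    intro j
    rcases (mate_facts (T := T) i).2.2 j with h | h <;> rcases (mate_facts (T := T) i).2.2 (mate j) with h' | h'
    · exact Or.inl ⟨h, h'⟩
    · rw [(mate_facts (T := T) j).1] at h'
      have e := (T.A.f (dTwo T (mate i) * dTwo T i)).injective (h.trans h'.symm)
      exact Or.inl ⟨h, e ▸ h⟩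
    · have e := (T.A.f (dTwo T (mate i) * dTwo T i)).injective (h.trans h'.symm)
      exact Or.inl ⟨e ▸ h', h'⟩
    · rw [(mate_facts (T := T) j).1] at h'
      exact Or.inr ⟨h, h'⟩
  | one => intro j; exact Or.inl ⟨by rw [map_one]; rfl, by rw [map_one]; rfl⟩
  | mul x y _ _ hx hy =>
    intro j
    simp only [map_mul, Equiv.Perm.mul_apply]
    rcases hx j with ⟨a, b⟩ | ⟨a, b⟩ <;> rcases hy j with ⟨c, d⟩ | ⟨c, d⟩ <;> rw [c, d, a, b] <;> simp
  | inv x _ hx =>
    intro j
    simp only [map_inv, Equiv.Perm.inv_def, Equiv.symm_apply_eq]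
    rcases hx j with ⟨a, b⟩ | ⟨a, b⟩
    · exact Or.inl ⟨a.symm, b.symm⟩
    · exact Or.inr ⟨b.symm, a.symm⟩

theorem eGroup_elementary (O : Outer T) : Cfsg.IsElementaryAbelian 2 (eGroup T) := by
  have hone : ∀ z, (∀ j, T.A.f z (tpt j) = tpt j) → z = 1 := fun z hz =>
    two_cent O fun i => (comm_fix T).2 (hz i)
  refine ⟨⟨⟨fun x y => Subtype.ext ?_⟩⟩, fun x hx => ?_⟩
  · show x.1 * y.1 = y.1 * x.1
    rw [← inv_mul_eq_one]
    refine hone _ fun j => ?_
    rw [map_mul, map_inv, Equiv.Perm.mul_apply, Equiv.Perm.inv_def, Equiv.symm_apply_eq, map_mul, map_mul,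
      Equiv.Perm.mul_apply, Equiv.Perm.mul_apply]
    rcases eGroup_act x.2 j with ⟨a, b⟩ | ⟨a, b⟩ <;> rcases eGroup_act y.2 j with ⟨c, d⟩ | ⟨c, d⟩ <;>
      simp only [a, b, c, d]
  · refine hone _ fun j => ?_
    rw [pow_two, map_mul, Equiv.Perm.mul_apply]
    rcases eGroup_act hx j with ⟨a, b⟩ | ⟨a, b⟩
    · rw [a, a]
    · rw [a, b]

theorem ePair_inj (i j : Fin 72) (hi : i.1 < (mate i).1) (hj : j.1 < (mate j).1) (h : ePair T i = ePair T j)
    (hlt : j.1 < i.1) : False := by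
  have hp := pairs_apart
  have hb := pairs_ok
  simp only [List.all_eq_true, List.mem_range, Bool.and_eq_true, Nat.blt_eq, and_assoc] at hb
  have hmi : (mate i).1 = twoPartner.getD i.1 0 := Nat.mod_eq_of_lt (hb i.1 i.2).1
  have hmj : (mate j).1 = twoPartner.getD j.1 0 := Nat.mod_eq_of_lt (hb j.1 j.2).1
  simp only [List.all_eq_true, List.mem_range, Bool.or_eq_true, Bool.not_eq_true', List.any_eq_true] at hp
  rcases hp i.1 i.2 with h1 | h1
  · rw [← Bool.not_eq_true, Nat.blt_eq, ← hmi] at h1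
    exact h1 hi
  rcases h1 j.1 hlt with h2 | ⟨q, hq, h3⟩
  · rw [← Bool.not_eq_true, Nat.blt_eq, ← hmj] at h2
    exact h2 hj
  obtain ⟨bi, mi, pi', -⟩ := fam_get two_fam (two_lt i)
  obtain ⟨bmi, mmi, pmi, -⟩ := fam_get two_fam (two_lt (mate i))
  obtain ⟨bj, mj, pj, -⟩ := fam_get two_fam (two_lt j)
  obtain ⟨bmj, mmj, pmj, -⟩ := fam_get two_fam (two_lt (mate j))
  have hq' : q < 3510 := by
    obtain ⟨t, ht, rfl⟩ := List.mem_iff_getElem.1 hq
    have := test_ok.2.2.1
    simp only [List.all_eq_true, List.mem_range, Bool.and_eq_true, Nat.blt_eq, and_assoc] at this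
    rw [← List.getD_eq_getElem _ 0 ht]
    exact (this t (test_ok.1 ▸ ht)).1
  have wi : ∀ g ∈ conjWord (twoMove.getD i.1 []) ++ conjWord (twoMove.getD (mate i).1 []), g < 9 := fun g hg =>
    (List.mem_append.1 hg).elim (conjWord_lt mi g) (conjWord_lt mmi g)
  have wj : ∀ g ∈ conjWord (twoMove.getD j.1 []) ++ conjWord (twoMove.getD (mate j).1 []), g < 9 := fun g hg =>
    (List.mem_append.1 hg).elim (conjWord_lt mj g) (conjWord_lt mmj g)
  have ei : ePair T i = wordVal T.A.x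
      (conjWord (twoMove.getD i.1 []) ++ conjWord (twoMove.getD (mate i).1 [])) := by
    rw [wordVal_append, ← delta_conj mi pi' bi, ← delta_conj mmi pmi bmi]; rfl
  have ej : ePair T j = wordVal T.A.x
      (conjWord (twoMove.getD j.1 []) ++ conjWord (twoMove.getD (mate j).1 [])) := by
    rw [wordVal_append, ← delta_conj mj pj bj, ← delta_conj mmj pmj bmj]; rfl
  rw [← Bool.not_eq_true, Nat.beq_eq, ← hmi, ← hmj] at h3
  refine h3 ?_
  have e1 := walk_val (T := T) wi ⟨q, hq'⟩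
  have e2 := walk_val (T := T) wj ⟨q, hq'⟩
  rw [← ei, h, ej] at e1
  exact e1.symm.trans e2

theorem le_card_eGroup : 36 ≤ Nat.card (eGroup T) := by
  have hinj : Function.Injective fun i : {i : Fin 72 // i.1 < (mate i).1} =>
      (⟨ePair T i.1, Subgroup.subset_closure ⟨i.1, rfl⟩⟩ : eGroup T) := fun i j h => by
    have h' : ePair T i.1 = ePair T j.1 := congrArg Subtype.val h
    rcases Nat.lt_trichotomy i.1.1 j.1.1 with hlt | heq | hgt
    · exact (ePair_inj j.1 i.1 j.2 i.2 h'.symm hlt).elim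
    · exact Subtype.ext (Fin.ext heq)
    · exact (ePair_inj i.1 j.1 i.2 j.2 h' hgt).elim
  have := Nat.card_le_card_of_injective _ hinj
  rwa [Nat.card_eq_fintype_card, mate_card] at this

/-- The structure of the fixed group of the twist composed with the pair. -/
theorem two_structure (O : Outer T) : ∃ E : Subgroup G, E = (Cfsg.pCore 2 ↥O.cTwo).map O.cTwo.subtype ∧
    Cfsg.IsElementaryAbelian 2 E ∧ Nat.card E = 64 ∧
    ∃ _ : (E.subgroupOf O.cTwo).Normal, Nonempty (↥O.cTwo ⧸ E.subgroupOf O.cTwo ≃* ↥O6) := by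
  haveI : Fact (Nat.Prime 2) := ⟨Nat.prime_two⟩
  obtain ⟨φ, hφ, hφk⟩ := exists_two_hom (T := T)
  have hWle : Subgroup.closure (Set.range (dTwo T)) ≤ O.cTwo := (Subgroup.closure_le _).2 (by
    rintro _ ⟨k, rfl⟩; exact dTwo_mem O k)
  have hEW : eGroup T ≤ Subgroup.closure (Set.range (dTwo T)) := (Subgroup.closure_le _).2 (by
    rintro _ ⟨i, rfl⟩
    exact mul_mem (Subgroup.subset_closure ⟨_, rfl⟩) (Subgroup.subset_closure ⟨_, rfl⟩))
  have hEker : (eGroup T).subgroupOf (Subgroup.closure (Set.range (dTwo T))) ≤ φ.ker := by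
    have : eGroup T ≤ φ.ker.map (Subgroup.closure (Set.range (dTwo T))).subtype := by
      rw [eGroup, Subgroup.closure_le]
      rintro _ ⟨i, rfl⟩
      refine ⟨⟨dTwo T (mate i), Subgroup.subset_closure ⟨_, rfl⟩⟩ * ⟨dTwo T i, Subgroup.subset_closure ⟨_, rfl⟩⟩,
        ?_, rfl⟩
      rw [SetLike.mem_coe, MonoidHom.mem_ker, map_mul, hφk, hφk]
      have hsame : vTwo (mate i) = vTwo i := Subtype.ext (congrArg (Orth.rGL Qm) (twoV_ok.2.2.2.2.2 i))
      rw [hsame, ← hφk, ← map_mul]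
      convert map_one φ
      exact Subtype.ext (dTwo_sq i)
    intro x hx
    obtain ⟨y, hy, e⟩ := this hx
    rwa [← show y = x from Subtype.ext e]
  have hpow : ∃ n, Nat.card (eGroup T) = 2 ^ n :=
    IsPGroup.iff_card.1 fun x => ⟨1, by rw [pow_one]; exact Subtype.ext ((eGroup_elementary O).2 x.1 x.2)⟩
  have h64 : 64 ≤ Nat.card (eGroup T) := by
    obtain ⟨n, hn⟩ := hpow
    have h36 := le_card_eGroup (T := T)
    rw [hn] at h36 ⊢
    have : 6 ≤ n := by
      by_contra hlt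
      have := Nat.pow_le_pow_right (show 0 < 2 by norm_num) (show n ≤ 5 by omega)
      omega
    exact le_trans (by norm_num) (Nat.pow_le_pow_right (show 0 < 2 by norm_num) this)
  have hk : Nat.card φ.ker * 51840 = Nat.card (Subgroup.closure (Set.range (dTwo T))) := by
    rw [← φ.ker.card_mul_index, Subgroup.index_ker, MonoidHom.range_eq_top.2 hφ, Subgroup.card_top, card_O6]
  have hW := Subgroup.card_le_of_le hWle
  have hC := card_cTwo_le O
  have hEk : Nat.card (eGroup T) ≤ Nat.card φ.ker := by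
    rw [← Nat.card_congr (Subgroup.subgroupOfEquivOfLe hEW).toEquiv]
    exact Subgroup.card_le_of_le hEker
  have hk64 : Nat.card φ.ker = 64 := by omega
  have hE64 : Nat.card (eGroup T) = 64 := by omega
  have hall : Subgroup.closure (Set.range (dTwo T)) = O.cTwo :=
    Subgroup.eq_of_le_of_card_ge hWle (by omega)
  obtain ⟨ψ, hψ, hψker⟩ : ∃ ψ : O.cTwo →* ↥O6, Function.Surjective ψ ∧
      ψ.ker = (eGroup T).subgroupOf O.cTwo := by
    refine ⟨φ.comp (MulEquiv.subgroupCongr hall.symm).toMonoidHom, hφ.comp (MulEquiv.surjective _), ?_⟩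
    have heq : (eGroup T).subgroupOf (Subgroup.closure (Set.range (dTwo T))) = φ.ker :=
      Subgroup.eq_of_le_of_card_ge hEker (by
        rw [Nat.card_congr (Subgroup.subgroupOfEquivOfLe hEW).toEquiv]; omega)
    ext x
    rw [MonoidHom.mem_ker, MonoidHom.comp_apply, ← MonoidHom.mem_ker, ← heq, Subgroup.mem_subgroupOf,
      Subgroup.mem_subgroupOf]
    rfl
  have hker2 : IsPGroup 2 ψ.ker := by
    refine IsPGroup.of_card (n := 6) ?_
    rw [hψker, Nat.card_congr (Subgroup.subgroupOfEquivOfLe (hEW.trans hWle)).toEquiv, hE64]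
    norm_num
  have hcore : Cfsg.pCore 2 ↥O.cTwo = ψ.ker := by
    refine le_antisymm ?_ (Lib.Core.le_pCore' inferInstance hker2)
    intro c hc
    haveI : ((Cfsg.pCore 2 ↥O.cTwo).map ψ).Normal := Subgroup.Normal.map inferInstance _ hψ
    have h := O6_two_bot _ ((Lib.Core.pCore_isPGroup 2 ↥O.cTwo).map ψ)
    rw [MonoidHom.mem_ker, ← Subgroup.mem_bot, ← h]
    exact Subgroup.mem_map_of_mem _ hc
  refine ⟨eGroup T, ?_, eGroup_elementary O, hE64, ?_⟩
  · rw [hcore, hψker, Subgroup.subgroupOf_map_subtype, inf_eq_left.2 (hEW.trans hWle)]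
  · haveI hn : ((eGroup T).subgroupOf O.cTwo).Normal := hψker ▸ ψ.normal_ker
    exact ⟨hn, ⟨(QuotientGroup.quotientMulEquivOfEq hψker.symm).trans
      (QuotientGroup.quotientKerEquivOfSurjective ψ hψ)⟩⟩

end Cfsg.Lib.CosetEnum.Fi22Outer
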