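import Cfsg.Agent.Lib.CosetEnum.Fi22Outer.One

/-!
# The fixed group of the twist composed with a product of two fixed members: a bound
-/

set_option autoImplicit false
set_option linter.unusedSectionVars false
set_option maxRecDepth 20000

namespace Cfsg.Lib.CosetEnum.Fi22Outer

open Fi22Norm (Fi22Tab)
open Fi22U62 (tabP)
open Fi22Out (twist)
open Fi22O8 (big)

variable {G : Type*} [Group G] [Finite G] {D : Set G} (T : Fi22Tab G D)

/-- The second member fixed by the twist. -/
def bEl : G := wordVal T.A.x (conjWord [1, 0, 2, 1])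

theorem pair_checks : twalk tabP 9 [1, 0, 2, 1] 0 = 6 ∧ comB tabP 9 [] 6 = true ∧ 6 ∈ bigPts ∧
    (∀ g < 9, testPts.getD g 0 = Fi22Out.pts.getD g 0) := by decide +kernel

theorem bEl_eq : bEl T = T.A.delta ⟨6, by norm_num⟩ :=
  (delta_conj (m := [1, 0, 2, 1]) (by decide) pair_checks.1 (by norm_num)).symm

theorem bEl_facts : bEl T ∈ D ∧ aEl T ≠ bEl T ∧ Commute (aEl T) (bEl T) ∧ bEl T ∈ big T := by
  refine ⟨bEl_eq T ▸ (Set.ext_iff.1 T.class_eq _).1 ((T.A.isConj_iff_exists _).2 ⟨_, rfl⟩), ?_, ?_, ?_⟩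
  · rw [aEl_eq, bEl_eq]
    exact fun h => by simpa using congrArg Fin.val (T.A.delta_injective h)
  · rw [aEl_eq, bEl_eq]
    exact (comB_iff (m := []) (by simp) (by rfl) (by norm_num) _).1 pair_checks.2.1
  · rw [bEl_eq]
    exact delta_mem_big T pair_checks.2.2.1

theorem pair_val : wordVal T.A.x pairWord = aEl T * bEl T := by
  rw [pairWord, wordVal_append]
  exact (bEl_facts T).2.2.1.eq.symm

theorem pairWord_lt : ∀ g ∈ pairWord, g < 9 := by decide +kernel

theorem two_lt (i : Fin 72) : i.1 < twoPts.length := two_head.1.symm ▸ i.2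

/-- A point fixed by the twist composed with the pair. -/
noncomputable def tpt (i : Fin 72) : Fin 3510 := pt twoPts i.1 (fam_get two_fam (two_lt i)).1

theorem tpt_inj : Function.Injective tpt := fun a b h => by
  have h' : twoPts.getD a.1 0 = twoPts.getD b.1 0 := congrArg Fin.val h
  rw [List.getD_eq_getElem _ _ (two_lt a), List.getD_eq_getElem _ _ (two_lt b)] at h'
  exact Fin.ext (two_head.2.1.getElem_inj_iff.1 h')

theorem tpt_mem (i : Fin 72) : (tpt i).1 ∈ twoPts := by
  show twoPts.getD i.1 0 ∈ twoPts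
  rw [List.getD_eq_getElem _ _ (two_lt i)]
  exact List.getElem_mem _

theorem tpt_get {q : Fin 3510} (hq : q.1 ∈ twoPts) : ∃ i, tpt i = q := by
  obtain ⟨i, hi, e⟩ := fam_mem two_fam hq
  exact ⟨⟨i, two_head.1 ▸ hi⟩, e.symm⟩

/-- A member fixed by the twist composed with the pair. -/
noncomputable def dTwo (i : Fin 72) : G := T.A.delta (tpt i)

theorem comB_two (i : Fin 72) (q : Fin 3510) :
    comB tabP 9 (twoMove.getD i.1 []) q.1 = true ↔ Commute (dTwo T i) (T.A.delta q) := by
  obtain ⟨hb, hmv, hpath, -⟩ := fam_get two_fam (two_lt i)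
  exact comB_iff hmv hpath hb q

theorem comm_fix {z : G} {q : Fin 3510} : Commute z (T.A.delta q) ↔ T.A.f z q = q := by
  constructor
  · intro h
    refine T.A.delta_injective ?_
    rw [T.A.delta_apply, h.eq, mul_inv_cancel_right]
  · intro h
    have := T.A.delta_apply z q
    rw [h] at this
    exact (mul_inv_eq_iff_eq_mul.1 this.symm)

theorem comm_shift {z : G} {d : G} (hd : Commute z d) (q : Fin 3510) :
    Commute d (T.A.delta (T.A.f z q)) ↔ Commute d (T.A.delta q) := by
  have e : d = z * d * z⁻¹ := by rw [hd.eq, mul_inv_cancel_right]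
  rw [T.A.delta_apply]
  conv_lhs => rw [e]
  exact Commute.conj_iff z

variable {T} (O : Outer T)

/-- The twist composed with the pair. -/
noncomputable def Outer.tau : MulAut G := O.σ * MulAut.conj (wordVal T.A.x pairWord)

/-- Its fixed elements. -/
noncomputable def Outer.cTwo : Subgroup G := MonoidHom.eqLocus O.tau.toMonoidHom (MonoidHom.id G)

theorem Outer.mem_cTwo {g : G} : g ∈ O.cTwo ↔ O.tau g = g := Iff.rfl

theorem Outer.tau_moves : Moves T O.tau (O.π * T.A.f (wordVal T.A.x pairWord)) := O.moves_word pairWord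

theorem dTwo_mem (i : Fin 72) : dTwo T i ∈ O.cTwo := by
  rw [O.mem_cTwo, dTwo, O.tau_moves, (fixed_iff T O pairWord_lt two_fam two_scan _).2 (tpt_mem i)]

theorem two_perm {g : G} (hg : g ∈ O.cTwo) (i : Fin 72) : ∃ j, T.A.f g (tpt i) = tpt j := by
  obtain ⟨j, hj⟩ := tpt_get (q := T.A.f g (tpt i)) ((fixed_iff T O pairWord_lt two_fam two_scan _).1
    ((O.tau_moves.comm_of_fixed (O.mem_cTwo.1 hg) _).trans
      (congrArg _ ((fixed_iff T O pairWord_lt two_fam two_scan _).2 (tpt_mem i)))))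
  exact ⟨j, hj.symm⟩

theorem test_facts {i : ℕ} (hi : i < 10) : ∃ (hp : testPts.getD i 0 < 3510) (hq : testImage.getD i 0 < 3510),
    (O.π * T.A.f (wordVal T.A.x pairWord)) ⟨_, hp⟩ = ⟨_, hq⟩ ∧
      (∀ q : Fin 3510, comB tabP 9 (testMove.getD i []) q.1 = true ↔ Commute (T.A.delta ⟨_, hp⟩) (T.A.delta q)) ∧
      ∀ q : Fin 3510, comB tabP 9 (testImageMove.getD i []) q.1 = true ↔
        Commute (T.A.delta ⟨_, hq⟩) (T.A.delta q) := by
  obtain ⟨-, -, h, -⟩ := test_ok
  simp only [List.all_eq_true, List.mem_range, Bool.and_eq_true, Nat.blt_eq, Nat.beq_eq, and_assoc] at h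
  obtain ⟨hp, h1, h2, h3, h4, h5⟩ := h i hi
  have e := O.outW_val pairWord_lt ⟨_, hp⟩
  rw [h5] at e
  exact ⟨hp, e ▸ ((O.π * T.A.f (wordVal T.A.x pairWord)) ⟨_, hp⟩).2, Fin.ext e,
    fun q => comB_iff h1 h2 hp q, fun q => comB_iff h3 h4 _ q⟩

theorem exists_mask : ∀ f : Fin 4 → Bool, ∃ m : Fin 16, ∀ a : Fin 4, Nat.testBit m.1 a.1 = f a := by decide +kernel

/-- Only the identity commutes with all members fixed by the twist composed with the pair. -/
theorem two_cent (O : Outer T) {z : G} (hz : ∀ i, Commute z (dTwo T i)) : z = 1 := by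
  classical
  have hfix : ∀ i, T.A.f z (tpt i) = tpt i := fun i => (comm_fix T).1 (hz i)
  have himg : ∀ i < 10, ∀ hp : testPts.getD i 0 < 3510,
      (T.A.f z ⟨_, hp⟩).1 = testPts.getD i 0 ∨ (T.A.f z ⟨_, hp⟩).1 = testImage.getD i 0 := by
    intro i hi hp
    have hs := sep_ok
    simp only [List.all_eq_true, List.mem_range] at hs
    have h := scanOK_get (hs i hi) (T.A.f z ⟨_, hp⟩).1 (Nat.zero_le _) (by omega) (condsB_iff.2 (by
      intro c hc
      obtain ⟨s, hs', rfl⟩ := List.mem_map.1 hc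
      have hs72 : s < 72 := by
        have := test_ok.2.2.2
        simp only [List.all_eq_true, Nat.blt_eq] at this
        exact this s hs'
      show twalk tabP 9 (conjWord (twoMove.getD s [])) _ = _ ↔ _
      rw [← Nat.beq_eq]
      show comB tabP 9 (twoMove.getD s []) _ = true ↔ _
      rw [comB_two T ⟨s, hs72⟩, comm_shift T (hz _), ← comB_two T ⟨s, hs72⟩]))
    simp only [Bool.or_eq_true, Nat.beq_eq, elemN_iff] at h
    rcases h with (h | h) | h
    · exact Or.inl h
    · exact Or.inr h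
    · obtain ⟨j, hj⟩ := tpt_get (q := ⟨_, hp⟩) h
      left
      rw [← hj, hfix j, hj]
  obtain ⟨hmove, hmix⟩ := mixed_ok
  simp only [List.all_eq_true, List.mem_range, beq_iff_eq] at hmove
  have hstill : ∀ i < 10, i ∉ movedTest → testPts.getD i 0 = testImage.getD i 0 := fun i hi hn => by
    have := hmove i hi
    rw [show movedTest.contains i = false by simpa using hn, Bool.not_false, Nat.beq_eq] at this
    exact this
  have hlt : ∀ a : Fin 4, movedTest.getD a.1 0 < 10 := by decide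
  obtain ⟨m, hm⟩ := exists_mask fun a => decide
    ((T.A.f z ⟨_, (test_facts O (hlt a)).1⟩).1 = testImage.getD (movedTest.getD a.1 0) 0)
  have hcase : m.1 = 0 ∨ m.1 = 15 := by
    simp only [List.all_eq_true, List.mem_range, Bool.or_eq_true, Nat.beq_eq, force_eq, List.any_eq_true,
      Bool.not_eq_true', or_assoc] at hmix
    rcases hmix m.1 m.2 with h | h | ⟨a, ha, b, hb, hab⟩
    · exact Or.inl h
    · exact Or.inr h
    exfalso
    obtain ⟨pa, qa, -, ca, ca'⟩ := test_facts O (hlt ⟨a, ha⟩)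
    obtain ⟨pb, qb, -, -, -⟩ := test_facts O (hlt ⟨b, by omega⟩)
    have key : ∀ (c : Fin 4) (p : testPts.getD (movedTest.getD c.1 0) 0 < 3510)
        (q : testImage.getD (movedTest.getD c.1 0) 0 < 3510),
        T.A.f z ⟨_, p⟩ = if m.1.testBit c.1 then ⟨_, q⟩ else ⟨_, p⟩ := by
      intro c p q
      rw [hm c]
      rcases himg _ (hlt c) p with h | h
      · by_cases h2 : (T.A.f z ⟨_, p⟩).1 = testImage.getD (movedTest.getD c.1 0) 0
        · rw [if_pos (decide_eq_true h2)]; exact Fin.ext h2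
        · rw [if_neg (by simpa using h2)]; exact Fin.ext h
      · rw [if_pos (decide_eq_true h)]; exact Fin.ext h
    have e1 := key ⟨a, ha⟩ pa qa
    have e2 := key ⟨b, by omega⟩ pb qb
    have e3 : Commute (T.A.delta (T.A.f z ⟨_, pa⟩)) (T.A.delta (T.A.f z ⟨_, pb⟩)) ↔
        Commute (T.A.delta ⟨_, pa⟩) (T.A.delta ⟨_, pb⟩) := by
      rw [T.A.delta_apply, T.A.delta_apply]; exact Commute.conj_iff z
    rw [e1, e2] at e3
    apply Bool.eq_false_iff.1 hab
    rw [beq_iff_eq, Bool.eq_iff_iff]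
    refine (ca ⟨_, pb⟩).trans (e3.symm.trans ?_)
    dsimp only at e1 e2 ⊢
    cases Nat.testBit m.1 a <;> cases Nat.testBit m.1 b <;> simp only [cond_true, cond_false, if_true, if_false,
      Bool.false_eq_true]
    exacts [(ca ⟨_, pb⟩).symm, (ca ⟨_, qb⟩).symm, (ca' ⟨_, pb⟩).symm, (ca' ⟨_, qb⟩).symm]
  have hmem : ∀ i ∈ movedTest, ∃ a : Fin 4, movedTest.getD a.1 0 = i := by decide
  rcases hcase with h | h
  · have h1 : MulAut.conj z = 1 := (moves_conj (T := T) z).ext moves_one fun g hg => Fin.ext (by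
      have hg' : testPts.getD g 0 = Fi22Out.pts.getD g 0 := pair_checks.2.2.2 g hg
      obtain ⟨hp, -⟩ := test_facts O (show g < 10 by omega)
      show (T.A.f z ⟨_, pts_bound hg⟩).1 = _
      have e : (⟨_, pts_bound hg⟩ : Fin 3510) = ⟨_, hp⟩ := Fin.ext hg'.symm
      rw [e, Equiv.Perm.one_apply]
      rcases himg g (by omega) hp with h2 | h2
      · exact h2
      · by_cases hmv : g ∈ movedTest
        · obtain ⟨a, rfl⟩ := hmem g hmv
          have := hm a
          rw [h, Nat.zero_testBit, eq_comm, decide_eq_false_iff_not] at this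
          exact absurd h2 this
        · rw [h2]; exact (hstill g (by omega) hmv).symm)
    have hc : z ∈ Subgroup.center G := Subgroup.mem_center_iff.2 fun g => by
      have := DFunLike.congr_fun h1 g
      rw [MulAut.conj_apply, MulAut.one_apply] at this
      exact (mul_inv_eq_iff_eq_mul.1 this).symm
    rwa [T.center, Subgroup.mem_bot] at hc
  · exfalso
    have h1 : MulAut.conj z = O.tau := (moves_conj (T := T) z).ext O.tau_moves fun g hg => by
      have hg' : testPts.getD g 0 = Fi22Out.pts.getD g 0 := pair_checks.2.2.2 g hg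
      obtain ⟨hp, hq, e', -⟩ := test_facts O (show g < 10 by omega)
      have e : (⟨_, pts_bound hg⟩ : Fin 3510) = ⟨_, hp⟩ := Fin.ext hg'.symm
      rw [e, e']
      refine Fin.ext ?_
      by_cases hmv : g ∈ movedTest
      · obtain ⟨a, rfl⟩ := hmem g hmv
        have := hm a
        rw [h, (by decide : ∀ a : Fin 4, Nat.testBit 15 a.1 = true) a, eq_comm, decide_eq_true_eq] at this
        exact this
      · rcases himg g (by omega) hp with h2 | h2
        · rw [h2]; exact hstill g (by omega) hmv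
        · exact h2
    refine O.not_inner ⟨z * (wordVal T.A.x pairWord)⁻¹, ?_⟩
    rw [map_mul, h1, map_inv, Outer.tau, mul_inv_cancel_right]

/-- Elements fixing the first members of the list. -/
noncomputable def Outer.chain (k : ℕ) : Subgroup G :=
  O.cTwo ⊓ Subgroup.centralizer (dTwo T '' {i | i.1 < k})

theorem card_le_orbit {H K : Subgroup G} (S : Finset ℕ) (F : G → ℕ) (hF : ∀ g ∈ H, F g ∈ S)
    (hK : ∀ g ∈ H, ∀ h ∈ H, F g = F h → h⁻¹ * g ∈ K) : Nat.card H ≤ S.card * Nat.card K := by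
  classical
  let r : S → G := fun q => if h : ∃ g ∈ H, F g = q.1 then h.choose else 1
  have hr : ∀ g (hg : g ∈ H), r ⟨F g, hF g hg⟩ ∈ H ∧ F (r ⟨F g, hF g hg⟩) = F g := fun g hg => by
    have h : ∃ g' ∈ H, F g' = F g := ⟨g, hg, rfl⟩
    simp only [r, dif_pos h]
    exact h.choose_spec
  let φ : H → S × K := fun g => (⟨F g.1, hF _ g.2⟩,
    ⟨(r ⟨F g.1, hF _ g.2⟩)⁻¹ * g.1, hK _ g.2 _ (hr _ g.2).1 (hr _ g.2).2.symm⟩)
  have hφ : Function.Injective φ := fun x y h => by
    obtain ⟨h1, h2⟩ := Prod.ext_iff.1 h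
    have h2' : (r ⟨F x.1, hF _ x.2⟩)⁻¹ * x.1 = (r ⟨F y.1, hF _ y.2⟩)⁻¹ * y.1 := congrArg Subtype.val h2
    have h1' : (⟨F x.1, hF _ x.2⟩ : S) = ⟨F y.1, hF _ y.2⟩ := h1
    rw [h1'] at h2'
    exact Subtype.ext (mul_left_cancel h2')
  have := Nat.card_le_card_of_injective φ hφ
  rwa [Nat.card_prod, Nat.card_eq_fintype_card (α := S), Fintype.card_coe] at this

theorem chain_step {k : ℕ} (hk : k < 7) :
    Nat.card (O.chain k) ≤ twoCount.getD k 0 * Nat.card (O.chain (k + 1)) := by
  obtain ⟨-, -, -, h, -⟩ := two_head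
  simp only [List.all_eq_true, List.mem_range, Nat.beq_eq] at h
  rw [h k hk]
  obtain ⟨L, hL⟩ : ∃ L, L = (List.range 72).filter fun q => (List.range k).all fun i =>
      !(Nat.beq q i) && (comB tabP 9 (twoMove.getD i []) (twoPts.getD q 0) ==
        comB tabP 9 (twoMove.getD i []) (twoPts.getD k 0)) := ⟨_, rfl⟩
  rw [← hL]
  refine le_trans (card_le_orbit (K := O.chain (k + 1)) ((L.map fun q => twoPts.getD q 0).toFinset)
    (fun g => (T.A.f g (tpt ⟨k, by omega⟩)).1) ?_ ?_)
    (Nat.mul_le_mul_right _ (by simpa using List.toFinset_card_le (L.map fun q => twoPts.getD q 0)))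
  · intro g hg
    obtain ⟨j, hj⟩ := two_perm O hg.1 ⟨k, by omega⟩
    rw [List.mem_toFinset, List.mem_map]
    refine ⟨j.1, ?_, (congrArg Fin.val hj).symm⟩
    rw [hL, List.mem_filter, List.mem_range]
    refine ⟨j.2, ?_⟩
    simp only [List.all_eq_true, List.mem_range, Bool.and_eq_true, Bool.not_eq_true', beq_iff_eq]
    intro i hi
    have hc : Commute g (dTwo T ⟨i, by omega⟩) :=
      (Subgroup.mem_centralizer_iff.1 hg.2 _ ⟨⟨i, by omega⟩, hi, rfl⟩).symm
    refine ⟨?_, ?_⟩
    · rw [← Bool.not_eq_true, Nat.beq_eq]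
      intro hji
      have hji' : j = ⟨i, by omega⟩ := Fin.ext hji
      have h3 := tpt_inj ((T.A.f g).injective (hj.trans ((congrArg tpt hji').trans ((comm_fix T).1 hc).symm)))
      simp only [Fin.mk.injEq] at h3
      omega
    · rw [Bool.eq_iff_iff]
      refine (comB_two T ⟨i, by omega⟩ (tpt j)).trans ?_
      rw [← hj, comm_shift T hc]
      exact (comB_two T ⟨i, by omega⟩ (tpt ⟨k, by omega⟩)).symm
  · intro g hg h' hh he
    have hg1 : g ∈ O.cTwo := hg.1
    have hh1 : h' ∈ O.cTwo := hh.1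
    have hm1 : h'⁻¹ * g ∈ O.cTwo := mul_mem (inv_mem hh1) hg1
    refine ⟨hm1, Subgroup.mem_centralizer_iff.2 ?_⟩
    rintro _ ⟨i, hi, rfl⟩
    rcases Nat.lt_succ_iff_lt_or_eq.1 (show i.1 < k + 1 from hi) with hlt | heq
    · have hg2 : g ∈ Subgroup.centralizer (dTwo T '' {i | i.1 < k}) := hg.2
      have hh2 : h' ∈ Subgroup.centralizer (dTwo T '' {i | i.1 < k}) := hh.2
      exact Subgroup.mem_centralizer_iff.1 (mul_mem (inv_mem hh2) hg2) _ ⟨i, hlt, rfl⟩
    · rw [show i = ⟨k, by omega⟩ from Fin.ext heq]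
      refine ((comm_fix T).2 ?_).symm.eq
      rw [map_mul, Equiv.Perm.mul_apply, show T.A.f g (tpt ⟨k, by omega⟩) = T.A.f h' (tpt ⟨k, by omega⟩) from
        Fin.ext he, map_inv, Equiv.Perm.inv_def, Equiv.symm_apply_apply]

theorem chain_end : Nat.card (O.chain 7) = 1 := by
  rw [Subgroup.card_eq_one, Subgroup.eq_bot_iff_forall]
  intro z hz
  refine two_cent O fun j => (comm_fix T).2 ?_
  refine steps_induction T two_fam (P := fun q => T.A.f z q = q) (fun i hi q h1 h2 => ?_) twoStep 7 two_steps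
    (fun k hk hkl => (comm_fix T).1
      (Subgroup.mem_centralizer_iff.1 hz.2 _ ⟨⟨k, two_head.1 ▸ hkl⟩, hk, rfl⟩).symm) j.1 (two_lt j)
  have hc : T.A.f z * T.A.f (T.A.delta (pt twoPts i (fam_get two_fam hi).1)) =
      T.A.f (T.A.delta (pt twoPts i (fam_get two_fam hi).1)) * T.A.f z := by
    rw [← map_mul, ← map_mul, ((comm_fix T).2 h1).eq]
  exact (Equiv.ext_iff.1 hc q).trans (congrArg _ h2)

/-- The bound on the fixed group. -/
theorem card_cTwo_le : Nat.card O.cTwo ≤ 3317760 := by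
  have h0 : O.cTwo = O.chain 0 := le_antisymm (le_inf le_rfl fun x _ => Subgroup.mem_centralizer_iff.2 (by
    rintro _ ⟨i, hi, -⟩
    exact absurd hi (Nat.not_lt_zero _))) inf_le_left
  have hc : twoCount = [72, 40, 12, 4, 6, 4, 1] := by rfl
  have s0 := chain_step O (show 0 < 7 by norm_num)
  have s1 := chain_step O (show 1 < 7 by norm_num)
  have s2 := chain_step O (show 2 < 7 by norm_num)
  have s3 := chain_step O (show 3 < 7 by norm_num)
  have s4 := chain_step O (show 4 < 7 by norm_num)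
  have s5 := chain_step O (show 5 < 7 by norm_num)
  have s6 := chain_step O (show 6 < 7 by norm_num)
  rw [h0]
  simp only [hc, List.getD_cons_zero, List.getD_cons_succ, zero_add, show (1 : ℕ) + 1 = 2 from rfl,
    show (2 : ℕ) + 1 = 3 from rfl, show (3 : ℕ) + 1 = 4 from rfl, show (4 : ℕ) + 1 = 5 from rfl,
    show (5 : ℕ) + 1 = 6 from rfl, show (6 : ℕ) + 1 = 7 from rfl] at s0 s1 s2 s3 s4 s5 s6
  rw [chain_end O] at s6
  omega

end Cfsg.Lib.CosetEnum.Fi22Outer
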